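import Groth.Prelude.Def_SGA1
import Mathlib.RingTheory.Invariant.Basic
import Mathlib.RingTheory.Ideal.GoingUp
import Mathlib.AlgebraicGeometry.Morphisms.Integral
import Mathlib.AlgebraicGeometry.Restrict

/-! # Quotients of schemes by finite groups (`SGA1.IsQuot`): basic properties -/

universe u

open CategoryTheory AlgebraicGeometry Limits
open scoped Pointwise

namespace Groth.Agent.QuotScheme

variable {X Y : Scheme.{u}} {G : Type u} [Group G] {ρ : G →* Aut X} {p : X ⟶ Y}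

lemma appLE_congr_hom {X Y : Scheme.{u}} {f f' : X ⟶ Y} (h : f = f') (U : Y.Opens) (V : X.Opens)
    (e : V ≤ f ⁻¹ᵁ U) (e' : V ≤ f' ⁻¹ᵁ U) : f.appLE U V e = f'.appLE U V e' := by
  subst h; rfl

lemma rho_mul_hom (g h : G) : (ρ (g * h)).hom = (ρ h).hom ≫ (ρ g).hom := by
  rw [map_mul]; rfl

lemma rho_one_hom : (ρ 1).hom = 𝟙 X := by rw [map_one]; rfl

lemma rho_inv_comp (g : G) : (ρ g⁻¹).hom ≫ (ρ g).hom = 𝟙 X := by
  rw [← rho_mul_hom, mul_inv_cancel, rho_one_hom]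

/-- the action of `g` on sections over a stable open -/
noncomputable def act (hinv : ∀ g : G, (ρ g).hom ≫ p = p) (U : Y.Opens) (g : G) :
    Γ(X, p ⁻¹ᵁ U) →+* Γ(X, p ⁻¹ᵁ U) :=
  ((ρ g⁻¹).hom.appLE (p ⁻¹ᵁ U) (p ⁻¹ᵁ U) (SGA1.preimage_le_of_inv ρ p hinv g⁻¹ U)).hom

lemma act_one (hinv : ∀ g : G, (ρ g).hom ≫ p = p) (U : Y.Opens) (s : Γ(X, p ⁻¹ᵁ U)) :
    act hinv U 1 s = s := by
  have h : (ρ (1 : G)⁻¹).hom = 𝟙 X := by rw [inv_one, rho_one_hom]
  rw [act, appLE_congr_hom h _ _ _ (by simp)]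
  change (X.presheaf.map (homOfLE (le_refl (p ⁻¹ᵁ U))).op).hom s = s
  rw [Subsingleton.elim (homOfLE (le_refl (p ⁻¹ᵁ U))) (𝟙 _), op_id, X.presheaf.map_id]
  rfl

lemma act_mul (hinv : ∀ g : G, (ρ g).hom ≫ p = p) (U : Y.Opens) (g h : G) (s : Γ(X, p ⁻¹ᵁ U)) :
    act hinv U (g * h) s = act hinv U g (act hinv U h s) := by
  have e : (ρ (g * h)⁻¹).hom = (ρ g⁻¹).hom ≫ (ρ h⁻¹).hom := by rw [mul_inv_rev, rho_mul_hom]
  rw [act, appLE_congr_hom e _ _ _ (e ▸ SGA1.preimage_le_of_inv ρ p hinv (g * h)⁻¹ U),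
    ← Scheme.Hom.appLE_comp_appLE (ρ g⁻¹).hom (ρ h⁻¹).hom (p ⁻¹ᵁ U) (p ⁻¹ᵁ U) (p ⁻¹ᵁ U)
      (SGA1.preimage_le_of_inv ρ p hinv h⁻¹ U) (SGA1.preimage_le_of_inv ρ p hinv g⁻¹ U)]
  rfl

/-- `G` acts on the sections over a stable open -/
@[reducible]
noncomputable def sectionsAction (hinv : ∀ g : G, (ρ g).hom ≫ p = p) (U : Y.Opens) :
    MulSemiringAction G Γ(X, p ⁻¹ᵁ U) where
  smul g s := act hinv U g s
  one_smul := act_one hinv U
  mul_smul := act_mul hinv U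
  smul_zero g := map_zero (act hinv U g)
  smul_add g := map_add (act hinv U g)
  smul_one g := map_one (act hinv U g)
  smul_mul g := map_mul (act hinv U g)

/-- the base sections as algebra -/
@[reducible]
noncomputable def sectionsAlgebra (p : X ⟶ Y) (U : Y.Opens) :
    Algebra Γ(Y, U) Γ(X, p ⁻¹ᵁ U) := (p.app U).hom.toAlgebra

lemma smul_sections_def (hinv : ∀ g : G, (ρ g).hom ≫ p = p) (U : Y.Opens) (g : G)
    (s : Γ(X, p ⁻¹ᵁ U)) :
    letI := sectionsAction hinv U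
    g • s = ((ρ g⁻¹).hom.appLE (p ⁻¹ᵁ U) (p ⁻¹ᵁ U)
      (SGA1.preimage_le_of_inv ρ p hinv g⁻¹ U)).hom s := rfl

lemma fixed_iff_mem_range (hp : SGA1.IsQuot ρ p) (U : Y.Opens) (s : Γ(X, p ⁻¹ᵁ U)) :
    s ∈ Set.range (p.app U).hom ↔ ∀ g : G, act hp.inv U g s = s := by
  rw [hp.range_iff]
  constructor
  · intro h g; exact h g⁻¹
  · intro h g
    have := h g⁻¹
    rw [act, appLE_congr_hom (show (ρ g⁻¹⁻¹).hom = (ρ g).hom by rw [inv_inv]) _ _ _
      (SGA1.preimage_le_of_inv ρ p hp.inv g U)] at this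
    exact this

lemma isInvariant_sections (hp : SGA1.IsQuot ρ p) (U : Y.Opens) :
    letI := sectionsAction hp.inv U
    letI := sectionsAlgebra p U
    Algebra.IsInvariant Γ(Y, U) Γ(X, p ⁻¹ᵁ U) G := by
  let := sectionsAction hp.inv U
  let := sectionsAlgebra p U
  exact ⟨fun b hb ↦ (fixed_iff_mem_range hp U b).mpr hb⟩

lemma smulCommClass_sections (hp : SGA1.IsQuot ρ p) (U : Y.Opens) :
    letI := sectionsAction hp.inv U
    letI := sectionsAlgebra p U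
    SMulCommClass G Γ(Y, U) Γ(X, p ⁻¹ᵁ U) := by
  let := sectionsAction hp.inv U
  let := sectionsAlgebra p U
  refine ⟨fun g r s ↦ ?_⟩
  rw [Algebra.smul_def, Algebra.smul_def, MulSemiringAction.smul_mul]
  congr 1
  exact (fixed_iff_mem_range hp U _).mp ⟨r, rfl⟩ g

theorem isIntegralHom [Finite G] (hp : SGA1.IsQuot ρ p) : IsIntegralHom p := by
  have := hp.affine
  refine ⟨fun U _ ↦ ?_⟩
  let := sectionsAction hp.inv U
  let := sectionsAlgebra p U
  have := isInvariant_sections hp U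
  exact (Algebra.IsInvariant.isIntegral Γ(Y, U) Γ(X, p ⁻¹ᵁ U) G).isIntegral

/-! ## points -/

lemma mem_primeIdealOf_iff {X : Scheme.{u}} {V : X.Opens} (hV : IsAffineOpen V) (x : V)
    (f : Γ(X, V)) : f ∈ (hV.primeIdealOf x).asIdeal ↔ (x : X) ∉ X.basicOpen f := by
  rw [← not_iff_not, not_not]
  have : hV.primeIdealOf x ∈ PrimeSpectrum.basicOpen f ↔
      hV.primeIdealOf x ∈ hV.fromSpec ⁻¹ᵁ X.basicOpen f := by
    rw [hV.fromSpec_preimage_basicOpen]; rfl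
  refine this.trans ?_
  change hV.fromSpec (hV.primeIdealOf x) ∈ X.basicOpen f ↔ _
  rw [show hV.fromSpec (hV.primeIdealOf x) = (x : X) from hV.fromSpec_primeIdealOf x]

lemma primeIdealOf_injective {X : Scheme.{u}} {V : X.Opens} (hV : IsAffineOpen V) :
    Function.Injective hV.primeIdealOf := fun x y h ↦
  Subtype.ext (by rw [← hV.fromSpec_primeIdealOf x, h, hV.fromSpec_primeIdealOf])

lemma mem_preimage_of_mem (hinv : ∀ g : G, (ρ g).hom ≫ p = p) {U : Y.Opens} {x : X}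
    (hx : x ∈ p ⁻¹ᵁ U) (g : G) : (ρ g).hom x ∈ p ⁻¹ᵁ U :=
  SGA1.preimage_le_of_inv ρ p hinv g U hx

lemma base_rho (hinv : ∀ g : G, (ρ g).hom ≫ p = p) (x : X) (g : G) :
    p ((ρ g).hom x) = p x := by
  rw [← Scheme.Hom.comp_apply, hinv]

lemma primeIdealOf_rho (hinv : ∀ g : G, (ρ g).hom ≫ p = p) {U : Y.Opens}
    (hV : IsAffineOpen (p ⁻¹ᵁ U)) (x : ↥(p ⁻¹ᵁ U)) (g : G) :
    letI := sectionsAction hinv U
    (hV.primeIdealOf ⟨(ρ g).hom x.1, mem_preimage_of_mem hinv x.2 g⟩).asIdeal =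
      g • (hV.primeIdealOf x).asIdeal := by
  let := sectionsAction hinv U
  ext f
  rw [Ideal.mem_pointwise_smul_iff_inv_smul_mem, mem_primeIdealOf_iff, mem_primeIdealOf_iff,
    smul_sections_def, appLE_congr_hom (show (ρ g⁻¹⁻¹).hom = (ρ g).hom by rw [inv_inv]) _ _ _
      (SGA1.preimage_le_of_inv ρ p hinv g U), Scheme.basicOpen_appLE]
  exact not_congr ⟨fun h ↦ ⟨x.2, h⟩, fun h ↦ h.2⟩

lemma exists_affine_nbhd {Y : Scheme.{u}} {O : Y.Opens} {y : Y} (hy : y ∈ O) :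
    ∃ U : Y.Opens, IsAffineOpen U ∧ y ∈ U ∧ U ≤ O := by
  obtain ⟨_, ⟨U, hU, rfl⟩, hyU, hUO⟩ :=
    Y.isBasis_affineOpens.exists_subset_of_mem_open (show y ∈ (O : Set Y) from hy) O.isOpen
  exact ⟨U, hU, hyU, hUO⟩

theorem surjective [Finite G] (hp : SGA1.IsQuot ρ p) : Function.Surjective p.base := by
  intro y
  obtain ⟨U, hU, hyU, -⟩ := exists_affine_nbhd (Y := Y) (O := ⊤) (y := y) trivial
  have := hp.affine
  have hV : IsAffineOpen (p ⁻¹ᵁ U) := hU.preimage p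
  let := sectionsAction hp.inv U
  let := sectionsAlgebra p U
  have := isInvariant_sections hp U
  have := smulCommClass_sections hp U
  have := Algebra.IsInvariant.isIntegral Γ(Y, U) Γ(X, p ⁻¹ᵁ U) G
  obtain ⟨Q, -, hQ, hQy⟩ := Ideal.exists_ideal_over_prime_of_isIntegral
    (hU.primeIdealOf ⟨y, hyU⟩).asIdeal (⊥ : Ideal Γ(X, p ⁻¹ᵁ U)) (by
      rw [← RingHom.ker_eq_comap_bot, (RingHom.injective_iff_ker_eq_bot _).mp
        (show Function.Injective (algebraMap Γ(Y, U) Γ(X, p ⁻¹ᵁ U)) from hp.injective U)]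
      exact bot_le)
  let q : Spec Γ(X, p ⁻¹ᵁ U) := ⟨Q, hQ⟩
  refine ⟨hV.fromSpec q, ?_⟩
  have h1 := hU.SpecMap_appLE_fromSpec p hV le_rfl
  rw [← Scheme.Hom.app_eq_appLE] at h1
  have h2 : Spec.map (p.app U) q = hU.primeIdealOf ⟨y, hyU⟩ := PrimeSpectrum.ext hQy
  rw [← Scheme.Hom.comp_apply, ← h1, Scheme.Hom.comp_apply, h2, hU.fromSpec_primeIdealOf]

theorem orbit_iff [Finite G] (hp : SGA1.IsQuot ρ p) (x x' : X) :
    p.base x = p.base x' ↔ ∃ g : G, (ρ g).hom.base x = x' := by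
  refine ⟨fun h ↦ ?_, fun ⟨g, hg⟩ ↦ hg ▸ (base_rho hp.inv x g).symm⟩
  obtain ⟨U, hU, hyU, -⟩ := exists_affine_nbhd (Y := Y) (O := ⊤) (y := p x) trivial
  have := hp.affine
  have hV : IsAffineOpen (p ⁻¹ᵁ U) := hU.preimage p
  let := sectionsAction hp.inv U
  let := sectionsAlgebra p U
  have := isInvariant_sections hp U
  have := smulCommClass_sections hp U
  have hx : x ∈ p ⁻¹ᵁ U := hyU
  have hx' : x' ∈ p ⁻¹ᵁ U := by rw [Scheme.Hom.mem_preimage, ← h]; exact hyU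
  obtain ⟨g, hg⟩ := Algebra.IsInvariant.exists_smul_of_under_eq Γ(Y, U) Γ(X, p ⁻¹ᵁ U) G
    (hV.primeIdealOf ⟨x, hx⟩).asIdeal (hV.primeIdealOf ⟨x', hx'⟩).asIdeal (by
      ext r
      rw [Ideal.under_def, Ideal.mem_comap, Ideal.under_def, Ideal.mem_comap,
        mem_primeIdealOf_iff, mem_primeIdealOf_iff]
      change x ∉ X.basicOpen ((p.app U).hom r) ↔ x' ∉ X.basicOpen ((p.app U).hom r)
      rw [← Scheme.preimage_basicOpen, Scheme.Hom.mem_preimage, Scheme.Hom.mem_preimage, h])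
  rw [← primeIdealOf_rho hp.inv hV ⟨x, hx⟩ g] at hg
  have := primeIdealOf_injective hV (PrimeSpectrum.ext hg)
  exact ⟨g, (congr_arg Subtype.val this).symm⟩

theorem isClosedMap [Finite G] (hp : SGA1.IsQuot ρ p) : IsClosedMap p.base := by
  have := isIntegralHom hp
  exact p.isClosedMap

theorem isQuotientMap [Finite G] (hp : SGA1.IsQuot ρ p) : Topology.IsQuotientMap p.base :=
  (isClosedMap hp).isQuotientMap p.continuous (surjective hp)

/-! ## categorical quotient -/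

/-- A surjective morphism injective on sections is an epimorphism. -/
theorem epi_of_surjective_of_injective {X Y : Scheme.{u}} (f : X ⟶ Y)
    (hs : Function.Surjective f.base) (hi : ∀ U : Y.Opens, Function.Injective (f.app U).hom) :
    Epi f := by
  constructor
  intro Z a b h
  have hb : a.base = b.base := by
    ext y
    obtain ⟨x, rfl⟩ := hs y
    exact congr($h x)
  refine Scheme.Hom.ext hb fun W ↦ ?_
  have e : b ⁻¹ᵁ W ≤ a ⁻¹ᵁ W := fun y hy ↦ by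
    rw [Scheme.Hom.mem_preimage, show a y = b y from congr($hb y)]; exact hy
  have key : a.appLE W (b ⁻¹ᵁ W) e = b.appLE W (b ⁻¹ᵁ W) le_rfl := by
    ext s
    apply hi (b ⁻¹ᵁ W)
    have h1 := Scheme.Hom.appLE_comp_appLE f a W (b ⁻¹ᵁ W) (f ⁻¹ᵁ b ⁻¹ᵁ W) e le_rfl
    have h2 := Scheme.Hom.appLE_comp_appLE f b W (b ⁻¹ᵁ W) (f ⁻¹ᵁ b ⁻¹ᵁ W) le_rfl le_rfl
    have h12 := appLE_congr_hom h W (f ⁻¹ᵁ b ⁻¹ᵁ W) (fun z hz ↦ e hz) le_rfl
    have h3 := (h1.trans h12).trans h2.symm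
    rw [← Scheme.Hom.app_eq_appLE] at h3
    exact congr($h3 s)
  rw [← Scheme.Hom.app_eq_appLE] at key
  exact key

lemma morphismRestrict_surjective {X Y : Scheme.{u}} (f : X ⟶ Y)
    (hs : Function.Surjective f.base) (O : Y.Opens) : Function.Surjective (f ∣_ O).base := by
  rintro ⟨y, hy⟩
  obtain ⟨x, rfl⟩ := hs y
  exact ⟨⟨x, hy⟩, Subtype.ext (morphismRestrict_base_coe f O ⟨x, hy⟩)⟩

lemma morphismRestrict_app_injective {X Y : Scheme.{u}} (f : X ⟶ Y)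
    (hi : ∀ U : Y.Opens, Function.Injective (f.app U).hom) (O : Y.Opens) (V : O.toScheme.Opens) :
    Function.Injective ((f ∣_ O).app V).hom := by
  rw [morphismRestrict_app]
  change Function.Injective ((X.presheaf.map (eqToHom (image_morphismRestrict_preimage f O V)).op).hom ∘
    (f.app (O.ι ''ᵁ V)).hom)
  exact Function.Injective.comp
    (ConcreteCategory.bijective_of_isIso
      (X.presheaf.map (eqToHom (image_morphismRestrict_preimage f O V)).op)).1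
    (hi _)

lemma epi_morphismRestrict [Finite G] (hp : SGA1.IsQuot ρ p) (O : Y.Opens) : Epi (p ∣_ O) :=
  epi_of_surjective_of_injective _ (morphismRestrict_surjective p (surjective hp) O)
    (morphismRestrict_app_injective p hp.injective O)

lemma epi [Finite G] (hp : SGA1.IsQuot ρ p) : Epi p :=
  epi_of_surjective_of_injective _ (surjective hp) hp.injective

lemma morphismRestrict_homOfLE' {X Y : Scheme.{u}} (f : X ⟶ Y) {O U : Y.Opens} (hOU : O ≤ U) :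
    (f ∣_ O) ≫ Y.homOfLE hOU = X.homOfLE (f.preimage_mono hOU) ≫ (f ∣_ U) := by
  rw [← cancel_mono U.ι]
  simp

/-- local factorisation of an invariant morphism -/
theorem exists_local_desc (hp : SGA1.IsQuot ρ p) {Z : Scheme.{u}} (h : X ⟶ Z)
    (hh : ∀ g : G, (ρ g).hom ≫ h = h) {U : Y.Opens} (hU : IsAffineOpen U) {W : Z.Opens}
    (hW : IsAffineOpen W) (hUW : p ⁻¹ᵁ U ≤ h ⁻¹ᵁ W) :
    ∃ a : U.toScheme ⟶ Z, (p ∣_ U) ≫ a = (p ⁻¹ᵁ U).ι ≫ h := by
  have := hp.affine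
  have hV : IsAffineOpen (p ⁻¹ᵁ U) := hU.preimage p
  have hmem : ∀ r, (h.appLE W (p ⁻¹ᵁ U) hUW).hom r ∈ (p.app U).hom.range := fun r ↦ by
    refine (hp.range_iff U _).mpr fun g ↦ ?_
    have e : (ρ g).hom ≫ h = h := hh g
    have := Scheme.Hom.appLE_comp_appLE (ρ g).hom h W (p ⁻¹ᵁ U) (p ⁻¹ᵁ U) hUW
      (SGA1.preimage_le_of_inv ρ p hp.inv g U)
    rw [appLE_congr_hom e _ _ _ hUW] at this
    exact congr($this r)
  let e := RingEquiv.ofBijective (p.app U).hom.rangeRestrict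
    ⟨fun a b hab ↦ hp.injective U (congr_arg Subtype.val hab), RingHom.rangeRestrict_surjective _⟩
  let φ : Γ(Z, W) ⟶ Γ(Y, U) := CommRingCat.ofHom
    (e.symm.toRingHom.comp ((h.appLE W (p ⁻¹ᵁ U) hUW).hom.codRestrict _ hmem))
  have hφ : φ ≫ p.app U = h.appLE W (p ⁻¹ᵁ U) hUW := by
    ext r
    exact congr_arg Subtype.val (e.apply_symm_apply _)
  refine ⟨hU.isoSpec.hom ≫ Spec.map φ ≫ hW.fromSpec, ?_⟩
  have key : (p ∣_ U) ≫ hU.isoSpec.hom = hV.isoSpec.hom ≫ Spec.map (p.app U) := by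
    rw [← cancel_mono hU.fromSpec, Category.assoc, hU.isoSpec_hom_fromSpec, morphismRestrict_ι,
      Category.assoc, Scheme.Hom.app_eq_appLE, hU.SpecMap_appLE_fromSpec p hV,
      hV.isoSpec_hom_fromSpec_assoc]
  rw [reassoc_of% key, ← Spec.map_comp_assoc, hφ, hW.SpecMap_appLE_fromSpec h hV,
    hV.isoSpec_hom_fromSpec_assoc]

theorem existsUnique_desc [Finite G] (hp : SGA1.IsQuot ρ p) {Z : Scheme.{u}} (h : X ⟶ Z)
    (hh : ∀ g : G, (ρ g).hom ≫ h = h) : ∃! h' : Y ⟶ Z, p ≫ h' = h := by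
  have hepi := epi hp
  have hloc : ∀ y : Y, ∃ (U : Y.Opens) (a : U.toScheme ⟶ Z),
      y ∈ U ∧ (p ∣_ U) ≫ a = (p ⁻¹ᵁ U).ι ≫ h := by
    intro y
    obtain ⟨x, rfl⟩ := surjective hp y
    obtain ⟨W, hW, hxW, -⟩ := exists_affine_nbhd (Y := Z) (O := ⊤) (y := h x) trivial
    let C : Set Y := p.base '' ((h ⁻¹ᵁ W : X.Opens) : Set X)ᶜ
    have hC : IsClosed C := isClosedMap hp _ (h ⁻¹ᵁ W).isOpen.isClosed_compl
    have hxC : p x ∉ C := by
      rintro ⟨x', hx', he⟩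
      obtain ⟨g, hg⟩ := (orbit_iff hp x' x).mp he
      refine hx' ?_
      change h x' ∈ W
      rwa [← hh g, Scheme.Hom.comp_apply, hg]
    obtain ⟨U, hU, hxU, hUC⟩ :=
      exists_affine_nbhd (Y := Y) (O := ⟨Cᶜ, hC.isOpen_compl⟩) (y := p x) hxC
    have hUW : p ⁻¹ᵁ U ≤ h ⁻¹ᵁ W := fun z hz ↦ by
      by_contra hzW
      exact hUC hz ⟨z, hzW, rfl⟩
    obtain ⟨a, ha⟩ := exists_local_desc hp h hh hU hW hUW
    exact ⟨U, a, hxU, ha⟩
  choose U a hyU ha using hloc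
  let 𝒰 : Y.OpenCover := {
    I₀ := Y, X i := (U i), f i := (U i).ι,
    mem₀ := by
      rw [Scheme.presieve₀_mem_precoverage_iff]
      exact ⟨fun y ↦ ⟨y, by simpa using hyU y⟩, inferInstance⟩ }
  have compat : ∀ i j, pullback.fst (U i).ι (U j).ι ≫ a i = pullback.snd _ _ ≫ a j := by
    intro i j
    rw [← cancel_epi (isPullback_opens_inf (U i) (U j)).isoPullback.hom]
    simp only [IsPullback.isoPullback_hom_fst_assoc, IsPullback.isoPullback_hom_snd_assoc]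
    have := epi_morphismRestrict hp (U i ⊓ U j)
    rw [← cancel_epi (p ∣_ (U i ⊓ U j)), reassoc_of% (morphismRestrict_homOfLE' p inf_le_left),
      reassoc_of% (morphismRestrict_homOfLE' p inf_le_right), ha, ha,
      Scheme.homOfLE_ι_assoc, Scheme.homOfLE_ι_assoc]
  have hfac : p ≫ 𝒰.glueMorphisms a compat = h := by
    refine Scheme.hom_ext_of_forall _ _ fun x ↦ ⟨p ⁻¹ᵁ U (p x), hyU (p x), ?_⟩
    rw [← morphismRestrict_ι_assoc]
    erw [𝒰.ι_glueMorphisms a compat (p x)]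
    exact ha _
  exact ⟨_, hfac, fun b hb ↦ by rw [← cancel_epi p, hb, hfac]⟩

end Groth.Agent.QuotScheme
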