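import Groth.Agent.QuotScheme.Existence
import Mathlib.AlgebraicGeometry.Morphisms.Finite
import Mathlib.AlgebraicGeometry.Morphisms.Separated
import Mathlib.AlgebraicGeometry.Morphisms.FiniteType
import Mathlib.AlgebraicGeometry.Noetherian
import Mathlib.RingTheory.Adjoin.Tower

/-! # Properties of quotients by finite groups -/

universe u

open CategoryTheory AlgebraicGeometry Limits

namespace Groth.Agent.QuotScheme

variable {X Y Z : Scheme.{u}} {G : Type u} [Group G] [Finite G] {ρ : G →* Aut X} {p : X ⟶ Y}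

theorem isAffine_of_isQuot [IsAffine X] (hp : SGA1.IsQuot ρ p) : IsAffine Y := by
  obtain ⟨Y', p', hY', hp'⟩ := exists_affine_isQuot ρ
  obtain ⟨a, ha, -⟩ := existsUnique_desc hp p' hp'.inv
  obtain ⟨b, hb, -⟩ := existsUnique_desc hp' p hp.inv
  have := epi hp
  have := epi hp'
  have hab : a ≫ b = 𝟙 _ := by rw [← cancel_epi p, reassoc_of% ha, hb, Category.comp_id]
  have hba : b ≫ a = 𝟙 _ := by rw [← cancel_epi p', reassoc_of% hb, ha, Category.comp_id]
  have : IsIso a := ⟨b, hab, hba⟩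
  exact .of_isIso a

variable {f : X ⟶ Z} {q : Y ⟶ Z}

theorem isAffineHom_iff (hp : SGA1.IsQuot ρ p) (hq : p ≫ q = f) :
    IsAffineHom f ↔ IsAffineHom q := by
  have := hp.affine
  refine ⟨fun hf ↦ ⟨fun W hW ↦ ?_⟩, fun _ ↦ hq ▸ inferInstance⟩
  have hV : IsAffineOpen (p ⁻¹ᵁ (q ⁻¹ᵁ W)) := by
    rw [← Scheme.Hom.comp_preimage, hq]
    exact hW.preimage f
  have : IsAffine (p ⁻¹ᵁ (q ⁻¹ᵁ W)).toScheme := hV
  have hst : IsStable ρ (p ⁻¹ᵁ (q ⁻¹ᵁ W)) := fun g ↦
    SGA1.preimage_le_of_inv ρ p hp.inv g (q ⁻¹ᵁ W)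
  exact isAffine_of_isQuot (restrict hp (q ⁻¹ᵁ W) (restrictAction hst) (restrictAction_ι hst))

theorem isSeparated_iff_of_isQuot (hp : SGA1.IsQuot ρ p) (hq : p ≫ q = f) :
    IsSeparated f ↔ IsSeparated q := by
  have := hp.affine
  refine ⟨fun hf ↦ ⟨?_⟩, fun _ ↦ hq ▸ inferInstance⟩
  have := isIntegralHom hp
  let pp := pullback.map f f q q p p (𝟙 Z) ((Category.comp_id _).trans hq.symm)
    ((Category.comp_id _).trans hq.symm)
  have hpp : UniversallyClosed pp :=
    MorphismProperty.pullbackMap (P := @UniversallyClosed) inferInstance inferInstance hq.symm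
      hq.symm
  have hcomm : p ≫ pullback.diagonal q = pullback.diagonal f ≫ pp := by
    apply pullback.hom_ext <;>
      simp only [pp, pullback.map, Category.assoc, pullback.lift_fst, pullback.lift_snd] <;> simp
  have hr : Set.range (pullback.diagonal q) = pp '' Set.range (pullback.diagonal f) := by
    rw [← Set.range_comp, ← (surjective hp).range_comp (pullback.diagonal q).base]
    exact congr_arg Set.range (funext fun x ↦ congr($hcomm x))
  have hf' : IsClosed (Set.range (pullback.diagonal f)) :=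
    (pullback.diagonal f).isClosedEmbedding.isClosed_range
  exact IsClosedImmersion.of_isPreimmersion _ (hr ▸ pp.isClosedMap _ hf')

theorem isFinite_of_isQuot (hp : SGA1.IsQuot ρ p) (hq : p ≫ q = f) [LocallyOfFiniteType f] :
    IsFinite p := by
  have : LocallyOfFiniteType (p ≫ q) := hq ▸ inferInstance
  exact (IsFinite.iff_isIntegralHom_and_locallyOfFiniteType p).mpr
    ⟨isIntegralHom hp, locallyOfFiniteType_of_comp p q⟩

theorem quasiCompact_of_isQuot (hp : SGA1.IsQuot ρ p) (hq : p ≫ q = f) [QuasiCompact f] :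
    QuasiCompact q := by
  refine ⟨fun U hU hUc ↦ ?_⟩
  have h := (QuasiCompact.isCompact_preimage (f := f) U hU hUc).image p.continuous
  subst hq
  rw [Scheme.Hom.comp_base] at h
  simp only [TopCat.coe_comp, Set.preimage_comp] at h
  rwa [(surjective hp).image_preimage] at h

theorem locallyOfFiniteType_of_isQuot (hp : SGA1.IsQuot ρ p) (hq : p ≫ q = f)
    [IsLocallyNoetherian Z] [LocallyOfFiniteType f] : LocallyOfFiniteType q := by
  have hfin := isFinite_of_isQuot hp hq
  rw [HasRingHomProperty.iff_appLE (P := @LocallyOfFiniteType)]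
  intro U V e
  have hV : IsAffineOpen (p ⁻¹ᵁ V.1) := V.2.preimage p
  have e' : p ⁻¹ᵁ V.1 ≤ f ⁻¹ᵁ U.1 := by
    rw [← hq, Scheme.Hom.comp_preimage]
    exact p.preimage_mono e
  have hcomp : q.appLE U.1 V.1 e ≫ p.app V.1 = f.appLE U.1 (p ⁻¹ᵁ V.1) e' := by
    subst hq
    rw [Scheme.Hom.app_eq_appLE, Scheme.Hom.appLE_comp_appLE]
  have h1 : (f.appLE U.1 (p ⁻¹ᵁ V.1) e').hom.FiniteType :=
    HasRingHomProperty.appLE @LocallyOfFiniteType f inferInstance U ⟨_, hV⟩ e'
  have h2 : (p.app V.1).hom.Finite := p.finite_app V.1 V.2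
  have := IsLocallyNoetherian.component_noetherian (X := Z) U
  algebraize [(q.appLE U.1 V.1 e).hom, (p.app V.1).hom,
    (p.app V.1).hom.comp (q.appLE U.1 V.1 e).hom]
  have hft : Algebra.FiniteType Γ(Z, U.1) Γ(X, p ⁻¹ᵁ V.1) := by
    rw [← hcomp, CommRingCat.hom_comp] at h1
    exact h1
  exact ⟨fg_of_fg_of_fg Γ(Z, U.1) Γ(Y, V.1) Γ(X, p ⁻¹ᵁ V.1) hft.out Module.Finite.fg_top
    (hp.injective V.1)⟩

end Groth.Agent.QuotScheme
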