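import Groth.Agent.QuotScheme.Basic
import Mathlib.RingTheory.Invariant.Galois
import Mathlib.AlgebraicGeometry.ResidueField

/-! # Residue fields at the points of a quotient by a finite group -/

universe u

open CategoryTheory AlgebraicGeometry
open scoped Pointwise

namespace Groth.Agent.QuotScheme

lemma evaluation_appLE {X Y : Scheme.{u}} (f : X ⟶ Y) {U : Y.Opens} {V : X.Opens}
    (e : V ≤ f ⁻¹ᵁ U) (x : X) (hx : x ∈ V) (b : Γ(Y, U)) :
    f.residueFieldMap x (Y.evaluation U (f x) (e hx) b) =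
      X.evaluation V x hx ((f.appLE U V e).hom b) := by
  rw [Scheme.evaluation_naturality_apply f x (e hx) b]
  simp only [Scheme.Hom.appLE, Scheme.evaluation, CommRingCat.comp_apply]
  exact congr_arg (X.residue x).hom (X.presheaf.germ_res_apply (homOfLE e) x hx _).symm

lemma evaluation_congr {X : Scheme.{u}} {U : X.Opens} {x y : X} (h : x = y) (hx : x ∈ U)
    (b : Γ(X, U)) :
    (X.residueFieldCongr h).hom (X.evaluation U x hx b) = X.evaluation U y (h ▸ hx) b := by
  subst h; simp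

lemma mem_prime_iff_evaluation {X : Scheme.{u}} {V : X.Opens} (hV : IsAffineOpen V) (x : V)
    (f : Γ(X, V)) : f ∈ (hV.primeIdealOf x).asIdeal ↔ X.evaluation V x.1 x.2 f = 0 :=
  (mem_primeIdealOf_iff hV x f).trans (Scheme.evaluation_eq_zero_iff_notMem_basicOpen _ _ _ _).symm

/-- every element of the residue field is a quotient of values of sections over an affine open -/
lemma exists_evaluation_div {X : Scheme.{u}} {V : X.Opens} (hV : IsAffineOpen V) (x : V)
    (z : X.residueField x.1) : ∃ a b : Γ(X, V),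
      z = X.evaluation V x.1 x.2 a / X.evaluation V x.1 x.2 b := by
  obtain ⟨s, rfl⟩ := X.residue_surjective x.1 z
  let := TopCat.Presheaf.algebra_section_stalk X.presheaf x
  have := hV.isLocalization_stalk x
  obtain ⟨⟨a, b⟩, hab⟩ := IsLocalization.surj (hV.primeIdealOf x).asIdeal.primeCompl s
  have hb : X.evaluation V x.1 x.2 b.1 ≠ 0 := fun h ↦
    b.2 ((mem_prime_iff_evaluation hV x b.1).mpr h)
  refine ⟨a, b.1, (eq_div_iff hb).mpr ?_⟩
  exact (map_mul (X.residue x.1).hom s _).symm.trans (congr_arg (X.residue x.1).hom hab)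

variable {X Y : Scheme.{u}} {G : Type u} [Group G] [Finite G] {ρ : G →* Aut X} {p : X ⟶ Y}

theorem residueField_normal_and_surjective (hp : SGA1.IsQuot ρ p) (x : X) :
    (letI := (p.residueFieldMap x).hom.toAlgebra;
      Normal (Y.residueField (p.base x)) (X.residueField x)) ∧
    ∀ τ : X.residueField x ≅ X.residueField x,
      p.residueFieldMap x ≫ τ.hom = p.residueFieldMap x →
      ∃ (g : G) (e : (ρ g).hom.base x = x),
        τ.hom = (X.residueFieldCongr e).inv ≫ (ρ g).hom.residueFieldMap x := by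
  obtain ⟨U, hU, hyU, -⟩ := exists_affine_nbhd (Y := Y) (O := ⊤) (y := p x) trivial
  have := hp.affine
  have hV : IsAffineOpen (p ⁻¹ᵁ U) := hU.preimage p
  let := sectionsAction hp.inv U
  let := sectionsAlgebra p U
  have := isInvariant_sections hp U
  have := smulCommClass_sections hp U
  have hxV : x ∈ p ⁻¹ᵁ U := hyU
  let xV : ↥(p ⁻¹ᵁ U) := ⟨x, hxV⟩
  let Q := (hV.primeIdealOf xV).asIdeal
  let P := Q.under Γ(Y, U)
  have hlo : Q.LiesOver P := ⟨rfl⟩
  have hP : ∀ r, r ∈ P ↔ Y.evaluation U (p x) hyU r = 0 := fun r ↦ by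
    rw [show (Y.evaluation U (p x) hyU r = 0) ↔ (p.residueFieldMap x).hom (Y.evaluation U (p x) hyU r) = 0
      from (map_eq_zero _).symm]
    refine (mem_prime_iff_evaluation hV xV _).trans (Iff.of_eq (congr_arg (· = 0) ?_))
    exact (Scheme.evaluation_naturality_apply p x hyU r).symm
  let eA : Γ(Y, U) ⧸ P →+* Y.residueField (p x) :=
    Ideal.Quotient.lift P (Y.evaluation U (p x) hyU).hom fun r hr ↦ (hP r).mp hr
  let eB : Γ(X, p ⁻¹ᵁ U) ⧸ Q →+* X.residueField x :=
    Ideal.Quotient.lift Q (X.evaluation (p ⁻¹ᵁ U) x hxV).hom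
      fun r hr ↦ (mem_prime_iff_evaluation hV xV r).mp hr
  let : Algebra (Y.residueField (p x)) (X.residueField x) := (p.residueFieldMap x).hom.toAlgebra
  let : Algebra (Γ(Y, U) ⧸ P) (Y.residueField (p x)) := eA.toAlgebra
  let : Algebra (Γ(X, p ⁻¹ᵁ U) ⧸ Q) (X.residueField x) := eB.toAlgebra
  let : Algebra (Γ(Y, U) ⧸ P) (X.residueField x) := ((p.residueFieldMap x).hom.comp eA).toAlgebra
  have : IsScalarTower (Γ(Y, U) ⧸ P) (Y.residueField (p x)) (X.residueField x) :=
    .of_algebraMap_eq fun _ ↦ rfl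
  have : IsScalarTower (Γ(Y, U) ⧸ P) (Γ(X, p ⁻¹ᵁ U) ⧸ Q) (X.residueField x) := by
    refine .of_algebraMap_eq fun r ↦ ?_
    obtain ⟨r, rfl⟩ := Ideal.Quotient.mk_surjective r
    exact Scheme.evaluation_naturality_apply p x hyU r
  have : IsFractionRing (Γ(X, p ⁻¹ᵁ U) ⧸ Q) (X.residueField x) := by
    have : FaithfulSMul (Γ(X, p ⁻¹ᵁ U) ⧸ Q) (X.residueField x) :=
      (faithfulSMul_iff_algebraMap_injective _ _).mpr
        (RingHom.lift_injective_of_ker_le_ideal _ _
          fun r hr ↦ (mem_prime_iff_evaluation hV xV r).mpr hr)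
    refine IsFractionRing.of_field _ _ fun z ↦ ?_
    obtain ⟨a, b, hab⟩ := exists_evaluation_div hV xV z
    exact ⟨Ideal.Quotient.mk Q a, Ideal.Quotient.mk Q b, hab⟩
  have : IsFractionRing (Γ(Y, U) ⧸ P) (Y.residueField (p x)) := by
    have : FaithfulSMul (Γ(Y, U) ⧸ P) (Y.residueField (p x)) :=
      (faithfulSMul_iff_algebraMap_injective _ _).mpr
        (RingHom.lift_injective_of_ker_le_ideal _ _ fun r hr ↦ (hP r).mpr hr)
    refine IsFractionRing.of_field _ _ fun z ↦ ?_
    obtain ⟨a, b, hab⟩ := exists_evaluation_div hU ⟨p x, hyU⟩ z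
    exact ⟨Ideal.Quotient.mk P a, Ideal.Quotient.mk P b, hab⟩
  refine ⟨Ideal.IsFractionRing.normal G P Q (Y.residueField (p x)) (X.residueField x),
    fun τ hτ ↦ ?_⟩
  let τ' : Gal(X.residueField x/Y.residueField (p x)) :=
    { τ.commRingCatIsoToRingEquiv with
      commutes' := fun r ↦ congr($hτ r) }
  obtain ⟨⟨g, hg⟩, hgτ⟩ := IsFractionRing.stabilizerHom_surjective G P Q (Y.residueField (p x))
    (X.residueField x) τ'
  have hgx : (ρ g).hom x = x := by
    have h1 : (hV.primeIdealOf ⟨(ρ g).hom x, mem_preimage_of_mem hp.inv hyU g⟩).asIdeal = Q :=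
      (primeIdealOf_rho hp.inv hV xV g).trans hg
    exact congr_arg Subtype.val (primeIdealOf_injective hV (PrimeSpectrum.ext h1))
  have hgx' : (ρ g⁻¹).hom x = x := by
    conv_lhs => rw [← hgx, ← Scheme.Hom.comp_apply, ← rho_mul_hom, inv_mul_cancel, rho_one_hom]
    rfl
  refine ⟨g⁻¹, hgx', ?_⟩
  apply CommRingCat.hom_ext
  refine IsLocalization.ringHom_ext (nonZeroDivisors (Γ(X, p ⁻¹ᵁ U) ⧸ Q)) ?_
  refine Ideal.Quotient.ringHom_ext (RingHom.ext fun b ↦ ?_)
  have h2 := congr($hgτ (algebraMap _ (X.residueField x) (Ideal.Quotient.mk Q b)))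
  rw [IsFractionRing.stabilizerHom_apply_apply_mk] at h2
  refine h2.symm.trans ?_
  change X.evaluation (p ⁻¹ᵁ U) x hxV (g • b) = (ρ g⁻¹).hom.residueFieldMap x
    ((X.residueFieldCongr hgx').inv (X.evaluation (p ⁻¹ᵁ U) x hxV b))
  rw [Scheme.residueFieldCongr_inv,
    show (X.residueFieldCongr hgx'.symm).hom (X.evaluation (p ⁻¹ᵁ U) x hxV b) =
      X.evaluation (p ⁻¹ᵁ U) ((ρ g⁻¹).hom x) (mem_preimage_of_mem hp.inv hxV g⁻¹) b from
      evaluation_congr hgx'.symm hxV b]
  exact (evaluation_appLE (ρ g⁻¹).hom (SGA1.preimage_le_of_inv ρ p hp.inv g⁻¹ U) x hxV b).symm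

end Groth.Agent.QuotScheme
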