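import Groth.Agent.QuotScheme.Criterion
import Mathlib.AlgebraicGeometry.Morphisms.Flat
import Mathlib.LinearAlgebra.TensorProduct.Pi
import Mathlib.RingTheory.Flat.Basic
import Mathlib.Algebra.Category.Ring.Constructions

/-! # Quotients by finite groups commute with flat base change -/

universe u

open CategoryTheory AlgebraicGeometry Limits TopologicalSpace Opposite TensorProduct

namespace Groth.Agent.QuotScheme

/-- Invariants commute with flat base change. -/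
lemma invariants_baseChange {G : Type u} [Finite G] {B A B' A' : CommRingCat.{u}} {ι : B ⟶ A}
    {f : B ⟶ B'} {a : A ⟶ A'} {ι' : B' ⟶ A'} (h : IsPushout ι f a ι') (hf : f.hom.Flat)
    (σ : G → (A ⟶ A)) (σ' : G → (A' ⟶ A')) (hι : Function.Injective ι.hom)
    (hσι : ∀ g, ι ≫ σ g = ι)
    (hinv : ∀ s, (∀ g, (σ g).hom s = s) → s ∈ Set.range ι.hom)
    (h1 : ∀ g, a ≫ σ' g = σ g ≫ a) (h2 : ∀ g, ι' ≫ σ' g = ι') :
    Function.Injective ι'.hom ∧ ∀ s, (∀ g, (σ' g).hom s = s) → s ∈ Set.range ι'.hom := by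
  classical
  cases nonempty_fintype G
  algebraize [f.hom, ι.hom]
  have h0 := CommRingCat.isPushout_tensorProduct B B' A
  let e := (h0.isoIsPushout _ _ h.flip).commRingCatIsoToRingEquiv
  have el : ∀ b' : B', e (b' ⊗ₜ 1) = ι'.hom b' := fun b' ↦
    congr($(h0.inl_isoIsPushout_hom _ _ h.flip) b')
  have er : ∀ x : A, e (1 ⊗ₜ x) = a.hom x := fun x ↦
    congr($(h0.inr_isoIsPushout_hom _ _ h.flip) x)
  have et : ∀ b' x, e (b' ⊗ₜ x) = ι'.hom b' * a.hom x := fun b' x ↦ by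
    rw [← el, ← er, ← map_mul, Algebra.TensorProduct.tmul_mul_tmul, mul_one, one_mul]
  let s₀ : G → (A →ₗ[B] A) := fun g ↦
    { toFun := fun x ↦ (σ g).hom x
      map_add' := map_add _
      map_smul' := fun r x ↦ by
        rw [Algebra.smul_def, Algebra.smul_def, map_mul]
        exact congr_arg (· * _) congr($(hσι g) r) }
  let d : A →ₗ[B] (G → A) := LinearMap.pi fun g ↦ s₀ g - LinearMap.id
  have hex : Function.Exact (Algebra.linearMap B A) d := fun x ↦ by
    constructor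
    · intro hx
      obtain ⟨r, hr⟩ := hinv x fun g ↦ sub_eq_zero.mp (congr_fun hx g)
      exact ⟨r, hr⟩
    · rintro ⟨r, rfl⟩
      funext g
      exact sub_eq_zero.mpr congr($(hσι g) r)
  have hinj : Function.Injective ((Algebra.linearMap B A).lTensor B') :=
    Module.Flat.lTensor_preserves_injective_linearMap _ hι
  have hι' : ∀ b', e ((Algebra.linearMap B A).lTensor B' (b' ⊗ₜ 1)) = ι'.hom b' := fun b' ↦ by
    rw [LinearMap.lTensor_tmul, Algebra.linearMap_apply, map_one, el]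
  refine ⟨fun b₁ b₂ hb ↦ ?_, fun s hs ↦ ?_⟩
  · rw [← hι' b₁, ← hι' b₂] at hb
    have := congr_arg (TensorProduct.rid B B') (hinj (e.injective hb))
    simpa using this
  · have key : ∀ g, ∀ x, e ((s₀ g).lTensor B' x) = (σ' g).hom (e x) := fun g x ↦ by
      induction x with
      | zero => simp
      | tmul b' y =>
        rw [LinearMap.lTensor_tmul, et, et, map_mul]
        exact congr_arg₂ (· * ·) congr($(h2 g) b').symm congr($(h1 g) y).symm
      | add x y hx hy => rw [map_add, map_add, map_add, map_add, hx, hy]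
    obtain ⟨x, rfl⟩ := e.surjective s
    have hd : d.lTensor B' x = 0 := by
      apply (TensorProduct.piRight B B B' (fun _ : G ↦ (A : Type u))).injective
      rw [map_zero]
      funext g
      have : ∀ z, TensorProduct.piRight B B B' (fun _ : G ↦ (A : Type u)) (d.lTensor B' z) g =
          (s₀ g).lTensor B' z - z := fun z ↦ by
        induction z with
        | zero => simp
        | tmul b' y => simp [d, TensorProduct.tmul_sub]
        | add z w hz hw => simp only [map_add, Pi.add_apply, hz, hw]; abel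
      rw [this, Pi.zero_apply, sub_eq_zero]
      exact e.injective ((key g x).trans (hs g))
    obtain ⟨y, rfl⟩ := ((Module.Flat.lTensor_exact B' hex) x).mp hd
    refine ⟨TensorProduct.rid B B' y, ?_⟩
    rw [← hι', show (TensorProduct.rid B B' y) ⊗ₜ[B] (1 : B) = y from
      (TensorProduct.rid B B').symm_apply_apply y]

variable {X Y X' Y' : Scheme.{u}} {G : Type u} [Group G] {ρ : G →* Aut X} {p : X ⟶ Y}

/-- Quotients commute with flat base change. -/
theorem flat_baseChange [Finite G] (hp : SGA1.IsQuot ρ p) (qY : Y' ⟶ Y) [Flat qY] (pX : X' ⟶ X)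
    (p' : X' ⟶ Y') (hX : IsPullback pX p' p qY) (ρ' : G →* Aut X')
    (hρ₁ : ∀ g : G, (ρ' g).hom ≫ pX = pX ≫ (ρ g).hom) (hρ₂ : ∀ g : G, (ρ' g).hom ≫ p' = p') :
    SGA1.IsQuot ρ' p' := by
  have hp' : IsAffineHom p' := MorphismProperty.of_isPullback hX hp.affine
  refine of_affine_cover hp' hρ₂ fun y ↦ ?_
  obtain ⟨U, hU, hyU, -⟩ := exists_affine_nbhd (Y := Y) (O := ⊤) (y := qY y) trivial
  obtain ⟨U', hU', hyU', hle⟩ := exists_affine_nbhd (Y := Y') (O := qY ⁻¹ᵁ U) (y := y) hyU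
  have := hp.affine
  have hO : p' ⁻¹ᵁ U' = pX ⁻¹ᵁ (p ⁻¹ᵁ U) ⊓ p' ⁻¹ᵁ U' := by
    refine (inf_eq_right.mpr fun x hx ↦ ?_).symm
    change p (pX x) ∈ U
    rw [← Scheme.Hom.comp_apply, hX.w]
    exact hle hx
  have hpo := (isIso_pushoutSection_iff hX hle le_rfl hO).mp
    (isIso_pushoutSection_of_isAffineOpen hX hle le_rfl hO hU hU' (hU.preimage p))
  have e₀ := fun g ↦ SGA1.preimage_le_of_inv ρ p hp.inv g U
  have e₀' := fun g ↦ SGA1.preimage_le_of_inv ρ' p' hρ₂ g U'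
  have h1 := fun g ↦ show pX.appLE (p ⁻¹ᵁ U) (p' ⁻¹ᵁ U') (hO.le.trans inf_le_left) ≫
      (ρ' g).hom.appLE (p' ⁻¹ᵁ U') (p' ⁻¹ᵁ U') (e₀' g) =
      (ρ g).hom.appLE (p ⁻¹ᵁ U) (p ⁻¹ᵁ U) (e₀ g) ≫
        pX.appLE (p ⁻¹ᵁ U) (p' ⁻¹ᵁ U') (hO.le.trans inf_le_left) by
    rw [Scheme.Hom.appLE_comp_appLE, Scheme.Hom.appLE_comp_appLE]
    exact appLE_congr_hom (hρ₁ g) _ _ _ _
  have hσ := fun g ↦ show p.appLE U (p ⁻¹ᵁ U) le_rfl ≫ (ρ g).hom.appLE _ _ (e₀ g) =
      p.appLE U (p ⁻¹ᵁ U) le_rfl by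
    rw [Scheme.Hom.appLE_comp_appLE]; exact appLE_congr_hom (hp.inv g) _ _ _ _
  have h2 := fun g ↦ show p'.appLE U' (p' ⁻¹ᵁ U') le_rfl ≫ (ρ' g).hom.appLE _ _ (e₀' g) =
      p'.appLE U' (p' ⁻¹ᵁ U') le_rfl by
    rw [Scheme.Hom.appLE_comp_appLE]; exact appLE_congr_hom (hρ₂ g) _ _ _ _
  obtain ⟨hi, hr⟩ := invariants_baseChange hpo (HasRingHomProperty.appLE @Flat qY inferInstance
    ⟨U, hU⟩ ⟨U', hU'⟩ hle) _ _ (Scheme.Hom.app_eq_appLE p ▸ hp.injective U) hσ
    (fun s hs ↦ Scheme.Hom.app_eq_appLE p ▸ (hp.range_iff U s).mpr hs) h1 h2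
  refine ⟨U', hU', hyU', by rw [Scheme.Hom.app_eq_appLE]; exact hi, fun s hs ↦ ?_⟩
  rw [Scheme.Hom.app_eq_appLE]
  exact hr s fun g ↦ hs g _

end Groth.Agent.QuotScheme
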