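import Groth.Agent.QuotScheme.Spec
import Groth.Agent.QuotScheme.BaseChange
import Mathlib.AlgebraicGeometry.Gluing
import Mathlib.Algebra.Ring.Subring.Basic
import Mathlib.CategoryTheory.LocallyDirected

/-! # Existence of quotients of schemes by finite groups -/

universe u

open CategoryTheory AlgebraicGeometry Limits TopologicalSpace Opposite

namespace Groth.Agent.QuotScheme

variable {X Y : Scheme.{u}} {G : Type u} [Group G] {ρ : G →* Aut X} {p : X ⟶ Y}

/-- `V` is stable under the action. -/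
def IsStable (ρ : G →* Aut X) (V : X.Opens) : Prop := ∀ g : G, V ≤ (ρ g).hom ⁻¹ᵁ V

lemma IsStable.inf {V W : X.Opens} (hV : IsStable ρ V) (hW : IsStable ρ W) :
    IsStable ρ (V ⊓ W) := fun g ↦ inf_le_inf (hV g) (hW g)

/-- the restricted action -/
noncomputable def restrictAction {V : X.Opens} (hV : IsStable ρ V) : G →* Aut V.toScheme where
  toFun g :=
    { hom := (ρ g).hom.resLE V V (hV g)
      inv := (ρ g⁻¹).hom.resLE V V (hV g⁻¹)
      hom_inv_id := by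
        rw [← cancel_mono V.ι, Category.assoc, Scheme.Hom.resLE_comp_ι,
          Scheme.Hom.resLE_comp_ι_assoc]
        have := rho_inv_comp (ρ := ρ) g⁻¹
        rw [inv_inv] at this
        rw [this, Category.comp_id, Category.id_comp]
      inv_hom_id := by
        rw [← cancel_mono V.ι, Category.assoc, Scheme.Hom.resLE_comp_ι,
          Scheme.Hom.resLE_comp_ι_assoc, rho_inv_comp, Category.comp_id, Category.id_comp] }
  map_one' := by
    apply Iso.ext
    change (ρ 1).hom.resLE V V (hV 1) = 𝟙 V.toScheme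
    rw [← cancel_mono V.ι, Scheme.Hom.resLE_comp_ι, rho_one_hom, Category.comp_id,
      Category.id_comp]
  map_mul' g h := by
    apply Iso.ext
    change (ρ (g * h)).hom.resLE V V (hV _) =
      (ρ h).hom.resLE V V (hV h) ≫ (ρ g).hom.resLE V V (hV g)
    rw [← cancel_mono V.ι, Category.assoc, Scheme.Hom.resLE_comp_ι, Scheme.Hom.resLE_comp_ι,
      Scheme.Hom.resLE_comp_ι_assoc, rho_mul_hom]

lemma homOfLE_val {V W : X.Opens} (h : V ≤ W) (a : V.toScheme) : (X.homOfLE h a).1 = a.1 :=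
  congr($(X.homOfLE_ι h) a)

lemma restrictAction_ι {V : X.Opens} (hV : IsStable ρ V) (g : G) :
    (restrictAction hV g).hom ≫ V.ι = V.ι ≫ (ρ g).hom :=
  Scheme.Hom.resLE_comp_ι _ _

/-- An affine scheme with a finite group action has an affine quotient. -/
theorem exists_affine_isQuot [Finite G] [IsAffine X] (ρ : G →* Aut X) :
    ∃ (Y : Scheme.{u}) (p : X ⟶ Y), IsAffine Y ∧ SGA1.IsQuot ρ p := by
  let B : Subring Γ(X, ⊤) :=
    ⨅ g : G, RingHom.eqLocus (ρ g).hom.appTop.hom (RingHom.id Γ(X, ⊤))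
  have hB : ∀ s, s ∈ B ↔ ∀ g : G, (ρ g).hom.appTop.hom s = s := fun s ↦ Subring.mem_iInf
  let φ : CommRingCat.of B ⟶ Γ(X, ⊤) := CommRingCat.ofHom B.subtype
  refine ⟨Spec (CommRingCat.of B), X.toSpecΓ ≫ Spec.map φ, inferInstance, ?_⟩
  have hφ : ∀ g, φ ≫ (ρ g).hom.appTop = φ := fun g ↦ by
    ext b
    exact (hB _).mp b.2 g
  have hinv : ∀ g : G, (ρ g).hom ≫ X.toSpecΓ ≫ Spec.map φ = X.toSpecΓ ≫ Spec.map φ := fun g ↦ by
    rw [Scheme.toSpecΓ_naturality_assoc, ← Spec.map_comp, hφ]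
  have htop : ∀ a, (X.toSpecΓ ≫ Spec.map φ).appTop.hom a =
      φ.hom ((Scheme.ΓSpecIso (CommRingCat.of B)).hom.hom a) := fun a ↦ by
    rw [Scheme.Hom.comp_appTop, Scheme.toSpecΓ_appTop]
    exact congr($(Scheme.ΓSpecIso_naturality φ) a)
  refine of_affine_cover inferInstance hinv fun y ↦ ⟨⊤, isAffineOpen_top _, trivial, ?_, ?_⟩
  · intro a b hab
    apply (ConcreteCategory.bijective_of_isIso (Scheme.ΓSpecIso (CommRingCat.of B)).hom).1
    exact Subtype.ext ((htop a).symm.trans (hab.trans (htop b)))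
  · intro s hs
    have hs' : s ∈ B := (hB s).mpr fun g ↦ by
      have e : (⊤ : X.Opens) ≤ (ρ g).hom ⁻¹ᵁ ⊤ := fun _ _ ↦ trivial
      have := hs g e
      have h : (ρ g).hom.appLE ⊤ ⊤ e = (ρ g).hom.appTop := by
        rw [Scheme.Hom.appTop, Scheme.Hom.app_eq_appLE]; rfl
      exact (congr($h s)).symm.trans this
    refine ⟨(Scheme.ΓSpecIso (CommRingCat.of B)).inv.hom ⟨s, hs'⟩, (htop _).trans ?_⟩
    exact congr_arg φ.hom congr($((Scheme.ΓSpecIso (CommRingCat.of B)).inv_hom_id) ⟨s, hs'⟩)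

/-- An affine scheme with a finite group action has a quotient. -/
theorem exists_isQuot_of_isAffine [Finite G] [IsAffine X] (ρ : G →* Aut X) :
    ∃ (Y : Scheme.{u}) (p : X ⟶ Y), SGA1.IsQuot ρ p :=
  let ⟨Y, p, _, h⟩ := exists_affine_isQuot ρ
  ⟨Y, p, h⟩

/-- A morphism which is a quotient over each member of an open cover is a quotient. -/
theorem of_openCover [Finite G] (hinv : ∀ g : G, (ρ g).hom ≫ p = p)
    (H : ∀ y : Y, ∃ (Y' X' : Scheme.{u}) (j : Y' ⟶ Y) (pX : X' ⟶ X) (p' : X' ⟶ Y')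
      (ρ' : G →* Aut X'), IsOpenImmersion j ∧ IsOpenImmersion pX ∧ y ∈ Set.range j ∧
        pX ≫ p = p' ≫ j ∧ p.base ⁻¹' Set.range j = Set.range pX ∧ SGA1.IsQuot ρ' p' ∧
        ∀ g : G, (ρ' g).hom ≫ pX = pX ≫ (ρ g).hom) :
    SGA1.IsQuot ρ p := by
  choose Y' X' j pX p' ρ' hj hpX hy hw hrange hq hρ using H
  have hloc : ∀ y, ∃ U : Y.Opens, y ∈ U ∧ IsAffineOpen U ∧ U ≤ (j y).opensRange := fun y ↦ by
    obtain ⟨U, hU, hyU, hle⟩ := exists_affine_nbhd (Y := Y) (O := (j y).opensRange) (y := y) (hy y)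
    exact ⟨U, hyU, hU, hle⟩
  choose U hyU hU hUle using hloc
  have hU' : ∀ y, IsAffineOpen (j y ⁻¹ᵁ U y) := fun y ↦
    have := hj y
    (hU y).preimage_of_isOpenImmersion (j y) (hUle y)
  have hV' : ∀ y, IsAffineOpen (pX y ⁻¹ᵁ p ⁻¹ᵁ U y) := fun y ↦ by
    have := (hq y).affine
    rw [← Scheme.Hom.comp_preimage, hw y, Scheme.Hom.comp_preimage]
    exact (hU' y).preimage (p' y)
  have hle : ∀ y, p ⁻¹ᵁ U y ≤ (pX y).opensRange := fun y ↦
    fun x hx ↦ (hrange y).le (hUle y hx)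
  have hp : IsAffineHom p := isAffineHom_of_forall_exists_isAffineOpen p fun y ↦
    ⟨U y, hyU y, hU y, by
      have := ((pX y).isAffineOpen_iff_of_isOpenImmersion).mpr (hV' y)
      rwa [Scheme.Hom.image_preimage_eq_opensRange_inf, inf_eq_right.mpr (hle y)] at this⟩
  refine of_affine_cover hp hinv fun y ↦ ⟨U y, hU y, hyU y, ?_⟩
  have : IsIso ((j y).app (U y)) := (j y).isIso_app _ (hUle y)
  have : IsIso ((pX y).app (p ⁻¹ᵁ U y)) := (pX y).isIso_app _ (hle y)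
  let O := pX y ⁻¹ᵁ p ⁻¹ᵁ U y
  have hO : O = p' y ⁻¹ᵁ (j y ⁻¹ᵁ U y) := by
    rw [← Scheme.Hom.comp_preimage, ← hw y, Scheme.Hom.comp_preimage]
  have hsq : ∀ t, ((pX y).app (p ⁻¹ᵁ U y)).hom ((p.app (U y)).hom t) =
      ((p' y).appLE (j y ⁻¹ᵁ U y) O hO.le).hom (((j y).app (U y)).hom t) := fun t ↦ by
    have l := Scheme.Hom.appLE_comp_appLE (pX y) p (U y) (p ⁻¹ᵁ U y) O le_rfl le_rfl
    have r := Scheme.Hom.appLE_comp_appLE (p' y) (j y) (U y) (j y ⁻¹ᵁ U y) O le_rfl hO.le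
    have c := appLE_congr_hom (hw y) (U y) O le_rfl hO.le
    have key := (l.trans c).trans r.symm
    rw [← Scheme.Hom.app_eq_appLE, ← Scheme.Hom.app_eq_appLE, ← Scheme.Hom.app_eq_appLE] at key
    exact congr($key t)
  have bj := ConcreteCategory.bijective_of_isIso ((j y).app (U y))
  have bX := ConcreteCategory.bijective_of_isIso ((pX y).app (p ⁻¹ᵁ U y))
  have hinj : Function.Injective ((p' y).appLE (j y ⁻¹ᵁ U y) O hO.le).hom := by
    rw [Scheme.Hom.appLE]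
    change Function.Injective (((X' y).presheaf.map (homOfLE hO.le).op).hom ∘
      ((p' y).app (j y ⁻¹ᵁ U y)).hom)
    have : IsIso ((X' y).presheaf.map (homOfLE hO.le).op) := by
      have : IsIso (homOfLE hO.le) := ⟨homOfLE hO.ge, Subsingleton.elim _ _, Subsingleton.elim _ _⟩
      infer_instance
    exact ((ConcreteCategory.bijective_of_isIso _).1).comp ((hq y).injective _)
  refine ⟨fun a b hab ↦ bj.1 (hinj ((hsq a).symm.trans ((congr_arg _ hab).trans (hsq b)))),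
    fun s hs ↦ ?_⟩
  have e : ∀ g : G, O ≤ (ρ' y g).hom ⁻¹ᵁ O := fun g ↦ by
    rw [hO]; exact SGA1.preimage_le_of_inv _ _ (hq y).inv g _
  have e₀ := fun g ↦ SGA1.preimage_le_of_inv ρ p hinv g (U y)
  obtain ⟨t', ht'⟩ := (range_iff_of_eq (hq y) (j y ⁻¹ᵁ U y) O hO e
    (((pX y).app (p ⁻¹ᵁ U y)).hom s)).mpr fun g ↦ by
    have l := Scheme.Hom.appLE_comp_appLE (ρ' y g).hom (pX y) (p ⁻¹ᵁ U y) O O le_rfl (e g)
    have r := Scheme.Hom.appLE_comp_appLE (pX y) (ρ g).hom (p ⁻¹ᵁ U y) (p ⁻¹ᵁ U y) O (e₀ g) le_rfl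
    have key := (l.trans (appLE_congr_hom (hρ y g) (p ⁻¹ᵁ U y) O (e g) (fun z hz ↦ e₀ g hz))).trans
      r.symm
    rw [← Scheme.Hom.app_eq_appLE] at key
    exact (congr($key s)).trans (congr_arg _ (hs g (e₀ g)))
  obtain ⟨t, rfl⟩ := bj.2 t'
  exact ⟨t, bX.1 ((hsq t).trans ht')⟩

section Existence

variable [Finite G]

/-- A stable open having a quotient -/
structure Good (ρ : G →* Aut X) where
  V : X.Opens
  stable : IsStable ρ V
  good : ∃ (Y : Scheme.{u}) (p : V.toScheme ⟶ Y), SGA1.IsQuot (restrictAction stable) p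

namespace Good

variable {ρ : G →* Aut X}

noncomputable def Q (i : Good ρ) : Scheme.{u} := i.good.choose
noncomputable def π (i : Good ρ) : i.V.toScheme ⟶ i.Q := i.good.choose_spec.choose
lemma isQuot (i : Good ρ) : SGA1.IsQuot (restrictAction i.stable) i.π :=
  i.good.choose_spec.choose_spec

instance : Preorder (Good ρ) := Preorder.lift Good.V

lemma restrict_ι {V V' : X.Opens} (hV : IsStable ρ V) (hV' : IsStable ρ V') (h : V ≤ V') (g : G) :
    (restrictAction hV g).hom ≫ X.homOfLE h = X.homOfLE h ≫ (restrictAction hV' g).hom := by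
  rw [← cancel_mono V'.ι]
  simp only [Category.assoc, restrictAction_ι, Scheme.homOfLE_ι, Scheme.homOfLE_ι_assoc]

/-- restriction of a quotient to a smaller stable open -/
lemma exists_restrict (i : Good ρ) {V : X.Opens} (hV : IsStable ρ V) (h : V ≤ i.V) :
    ∃ (W : i.Q.Opens) (q : V.toScheme ⟶ W.toScheme),
      i.π ⁻¹ᵁ W = (X.homOfLE h).opensRange ∧ q ≫ W.ι = X.homOfLE h ≫ i.π ∧
      SGA1.IsQuot (restrictAction hV) q := by
  let O := (X.homOfLE h).opensRange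
  have hst : ∀ g z, z ∈ O → (restrictAction i.stable g).hom z ∈ O := by
    rintro g _ ⟨x, rfl⟩
    refine ⟨(restrictAction hV g).hom x, ?_⟩
    rw [← Scheme.Hom.comp_apply, restrict_ι hV i.stable h g]
    rfl
  let W : i.Q.Opens := ⟨(i.π.base '' (O : Set i.V.toScheme)ᶜ)ᶜ,
    (isClosedMap i.isQuot _ O.isOpen.isClosed_compl).isOpen_compl⟩
  have hW : i.π ⁻¹ᵁ W = O := by
    ext z
    refine ⟨fun hz ↦ ?_, fun hz ⟨z', hz', e⟩ ↦ ?_⟩
    · by_contra hzO
      exact hz ⟨z, hzO, rfl⟩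
    · obtain ⟨g, hg⟩ := (orbit_iff i.isQuot z z').mp e.symm
      exact hz' (hg ▸ hst g z hz)
  let q := IsOpenImmersion.lift W.ι (X.homOfLE h ≫ i.π) (by
    rintro _ ⟨x, rfl⟩
    rw [Scheme.Opens.range_ι]
    change X.homOfLE h x ∈ i.π ⁻¹ᵁ W
    rw [hW]
    exact ⟨x, rfl⟩)
  have hq : q ≫ W.ι = X.homOfLE h ≫ i.π := IsOpenImmersion.lift_fac _ _ _
  have hpb : IsPullback q (X.homOfLE h) W.ι i.π :=
    IsOpenImmersion.isPullback q (X.homOfLE h) W.ι i.π hq.symm (by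
      rw [Scheme.Opens.opensRange_ι]; exact hW)
  refine ⟨W, q, hW, hq, flat_baseChange i.isQuot W.ι (X.homOfLE h) q hpb.flip _
    (fun g ↦ restrict_ι hV i.stable h g) fun g ↦ ?_⟩
  rw [← cancel_mono W.ι, Category.assoc, hq, reassoc_of% (restrict_ι hV i.stable h g),
    i.isQuot.inv g]

/-- a stable open inside a good one is good -/
def sub (i : Good ρ) {V : X.Opens} (hV : IsStable ρ V) (h : V ≤ i.V) : Good ρ where
  V := V
  stable := hV
  good := let ⟨W, q, _, _, hq⟩ := exists_restrict i hV h; ⟨W.toScheme, q, hq⟩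

lemma trans_inv {i j : Good ρ} (h : i.V ≤ j.V) (g : G) :
    (restrictAction i.stable g).hom ≫ X.homOfLE h ≫ j.π = X.homOfLE h ≫ j.π := by
  rw [reassoc_of% (restrict_ι i.stable j.stable h g), j.isQuot.inv g]

/-- transition map -/
noncomputable def trans {i j : Good ρ} (h : i.V ≤ j.V) : i.Q ⟶ j.Q :=
  (existsUnique_desc i.isQuot (X.homOfLE h ≫ j.π) (trans_inv h)).choose

lemma π_trans {i j : Good ρ} (h : i.V ≤ j.V) : i.π ≫ trans h = X.homOfLE h ≫ j.π :=
  (existsUnique_desc i.isQuot (X.homOfLE h ≫ j.π) (trans_inv h)).choose_spec.1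

instance isOpenImmersion_trans {i j : Good ρ} (h : i.V ≤ j.V) : IsOpenImmersion (trans h) := by
  obtain ⟨W, q, -, hq, hqQ⟩ := exists_restrict j i.stable h
  have := epi i.isQuot
  have := epi hqQ
  obtain ⟨a, ha, -⟩ := existsUnique_desc i.isQuot q hqQ.inv
  obtain ⟨b, hb, -⟩ := existsUnique_desc hqQ i.π i.isQuot.inv
  have hab : a ≫ b = 𝟙 _ := by rw [← cancel_epi i.π, reassoc_of% ha, hb, Category.comp_id]
  have hba : b ≫ a = 𝟙 _ := by rw [← cancel_epi q, reassoc_of% hb, ha, Category.comp_id]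
  have : IsIso a := ⟨b, hab, hba⟩
  have : trans h = a ≫ W.ι := by rw [← cancel_epi i.π, π_trans, reassoc_of% ha, hq]
  rw [this]
  infer_instance

noncomputable def diagram (ρ : G →* Aut X) : Good ρ ⥤ Scheme.{u} where
  obj i := i.Q
  map f := trans f.le
  map_id i := by
    have := epi i.isQuot
    rw [← cancel_epi i.π, π_trans, Scheme.homOfLE_rfl, Category.id_comp, Category.comp_id]
  map_comp {i j k} f g := by
    have := epi i.isQuot
    rw [← cancel_epi i.π, π_trans, reassoc_of% (π_trans f.le), π_trans, Scheme.homOfLE_homOfLE_assoc]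

instance {i j : Good ρ} (f : i ⟶ j) : IsOpenImmersion ((diagram ρ).map f) :=
  isOpenImmersion_trans f.le

instance : (diagram ρ ⋙ Scheme.forget).IsLocallyDirected := by
  constructor
  intro i j k fi fj xi xj he
  obtain ⟨a, rfl⟩ := surjective i.isQuot xi
  obtain ⟨b, rfl⟩ := surjective j.isQuot xj
  have he' : k.π (X.homOfLE fi.le a) = k.π (X.homOfLE fj.le b) := by
    rw [← Scheme.Hom.comp_apply, ← Scheme.Hom.comp_apply, ← π_trans fi.le, ← π_trans fj.le]
    exact he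
  obtain ⟨g, hg⟩ := (orbit_iff k.isQuot _ _).mp he'
  let l : Good ρ := i.sub (i.stable.inf j.stable) inf_le_left
  have hab : (ρ g).hom a.1 = b.1 := by
    have := congr_arg (k.V.ι) hg
    rw [← Scheme.Hom.comp_apply, restrictAction_ι, Scheme.Hom.comp_apply] at this
    change (ρ g).hom (X.homOfLE fi.le a).1 = (X.homOfLE fj.le b).1 at this
    rwa [homOfLE_val, homOfLE_val] at this
  have ha : a.1 ∈ i.V ⊓ j.V := by
    refine ⟨a.2, ?_⟩
    have := j.stable g⁻¹ b.2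
    rw [Scheme.Hom.mem_preimage, ← hab, ← Scheme.Hom.comp_apply] at this
    rwa [← rho_mul_hom, inv_mul_cancel, rho_one_hom] at this
  refine ⟨l, homOfLE (show l.V ≤ i.V from inf_le_left), homOfLE (show l.V ≤ j.V from inf_le_right),
    l.π ⟨a.1, ha⟩, ?_, ?_⟩
  · change (l.π ≫ trans _) ⟨a.1, ha⟩ = _
    rw [π_trans]
    exact congr_arg i.π.base (Subtype.ext (homOfLE_val _ _))
  · change (l.π ≫ trans _) ⟨a.1, ha⟩ = _
    rw [π_trans]
    refine (orbit_iff j.isQuot _ _).mpr ⟨g, ?_⟩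
    apply Subtype.ext
    refine (congr($(restrictAction_ι j.stable g) _)).trans ?_
    exact (congr_arg (ρ g).hom.base (homOfLE_val _ _)).trans hab

end Good

/-- Existence of the quotient from a cover by stable affine opens. -/
theorem exists_isQuot_of_cover (ρ : G →* Aut X)
    (H : ∀ x : X, ∃ V : X.Opens, x ∈ V ∧ IsStable ρ V ∧ IsAffineOpen V) :
    ∃ (Y : Scheme.{u}) (p : X ⟶ Y), SGA1.IsQuot ρ p := by
  have H' : ∀ x : X, ∃ i : Good ρ, x ∈ i.V := fun x ↦ by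
    obtain ⟨V, hxV, hst, hV⟩ := H x
    have : IsAffine V.toScheme := hV
    exact ⟨⟨V, hst, exists_isQuot_of_isAffine (restrictAction hst)⟩, hxV⟩
  choose i hi using H'
  let F := Good.diagram ρ
  let c : ∀ j : Good ρ, j.Q ⟶ colimit F := fun j ↦ colimit.ι F j
  let 𝒰 : X.OpenCover := {
    I₀ := X, X x := (i x).V, f x := (i x).V.ι,
    mem₀ := by
      rw [Scheme.presieve₀_mem_precoverage_iff]
      exact ⟨fun x ↦ ⟨x, by simpa using hi x⟩, inferInstance⟩ }
  have hc : ∀ {k j : Good ρ} (h : k.V ≤ j.V), X.homOfLE h ≫ j.π ≫ c j = k.π ≫ c k := by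
    intro k j h
    rw [← reassoc_of% (Good.π_trans h)]
    exact congr_arg _ (colimit.w F (homOfLE h))
  have compat : ∀ a b, pullback.fst (i a).V.ι (i b).V.ι ≫ (i a).π ≫ c (i a) =
      pullback.snd _ _ ≫ (i b).π ≫ c (i b) := by
    intro a b
    rw [← cancel_epi (isPullback_opens_inf (i a).V (i b).V).isoPullback.hom]
    simp only [IsPullback.isoPullback_hom_fst_assoc, IsPullback.isoPullback_hom_snd_assoc]
    let l : Good ρ := (i a).sub ((i a).stable.inf (i b).stable) inf_le_left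
    exact (hc (k := l) inf_le_left).trans (hc (k := l) inf_le_right).symm
  let p := 𝒰.glueMorphisms (fun x ↦ (i x).π ≫ c (i x)) compat
  have hp : ∀ j : Good ρ, j.V.ι ≫ p = j.π ≫ c j := by
    intro j
    refine Scheme.hom_ext_of_forall _ _ fun z ↦ ?_
    let l : Good ρ := j.sub (j.stable.inf (i z.1).stable) inf_le_left
    refine ⟨(X.homOfLE (inf_le_left : l.V ≤ j.V)).opensRange, ⟨⟨z.1, z.2, hi z.1⟩, Subtype.ext (homOfLE_val _ _)⟩, ?_⟩
    rw [← cancel_epi (X.homOfLE (inf_le_left : l.V ≤ j.V)).isoOpensRange.hom]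
    simp only [Scheme.Hom.isoOpensRange_hom_ι_assoc]
    have e3 : (i z.1).π ≫ c (i z.1) = (i z.1).V.ι ≫ p :=
      (𝒰.ι_glueMorphisms (fun x ↦ (i x).π ≫ c (i x)) compat z.1).symm
    refine (Scheme.homOfLE_ι_assoc _ _ _).trans (Eq.trans ?_
      ((hc (k := l) (j := i z.1) inf_le_right).trans (hc (k := l) (j := j) inf_le_left).symm))
    rw [e3]
    exact (Scheme.homOfLE_ι_assoc _ _ _).symm
  have hinv : ∀ g : G, (ρ g).hom ≫ p = p := fun g ↦ by
    refine Scheme.hom_ext_of_forall _ _ fun x ↦ ⟨(i x).V, hi x, ?_⟩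
    rw [← reassoc_of% (restrictAction_ι (i x).stable g), hp, reassoc_of% ((i x).isQuot.inv g)]
  refine ⟨colimit F, p, of_openCover hinv fun y ↦ ?_⟩
  obtain ⟨j, yj, hj⟩ := Scheme.IsLocallyDirected.ι_jointly_surjective F y
  refine ⟨j.Q, j.V.toScheme, c j, j.V.ι, j.π, restrictAction j.stable,
    inferInstanceAs (IsOpenImmersion (colimit.ι F j)), inferInstance, ⟨yj, hj⟩, hp j, ?_, j.isQuot,
    restrictAction_ι j.stable⟩
  rw [Scheme.Opens.range_ι]
  ext x
  refine ⟨fun hx ↦ ?_, fun hx ↦ ⟨j.π ⟨x, hx⟩, (congr($(hp j) ⟨x, hx⟩)).symm⟩⟩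
  obtain ⟨zj, hzj⟩ := hx
  have hx1 : c (i x) ((i x).π ⟨x, hi x⟩) = c j zj :=
    ((congr($(hp (i x)) ⟨x, hi x⟩)).symm).trans hzj.symm
  obtain ⟨k, fi, fj, w, hw, -⟩ := Scheme.IsLocallyDirected.ι_eq_ι_iff F |>.mp hx1
  obtain ⟨z, rfl⟩ := surjective k.isQuot w
  change (k.π ≫ Good.trans fi.le) z = _ at hw
  rw [Good.π_trans] at hw
  obtain ⟨g, hg⟩ := (orbit_iff (i x).isQuot _ _).mp hw
  have := congr_arg (i x).V.ι hg
  rw [← Scheme.Hom.comp_apply, restrictAction_ι] at this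
  have hxg : (ρ g).hom z.1 = x := (congr_arg (ρ g).hom.base (homOfLE_val _ z)).symm.trans this
  exact hxg ▸ j.stable g (fj.le z.2)

/-- If every orbit lies in an affine open, the stable affine opens cover. -/
theorem exists_stable_affine (ρ : G →* Aut X) {x : X} {U : X.Opens} (hU : IsAffineOpen U)
    (hx : ∀ g : G, (ρ g).hom x ∈ U) :
    ∃ V : X.Opens, x ∈ V ∧ IsStable ρ V ∧ IsAffineOpen V := by
  classical
  cases nonempty_fintype G
  have h1 : ∀ g h, (ρ g).hom ((ρ h).hom x) = (ρ (g * h)).hom x := fun g h ↦ by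
    rw [rho_mul_hom]; rfl
  have hfin : IsOpen (⋂ g : G, ((ρ g).hom ⁻¹ᵁ U : Set X)) :=
    isOpen_iInter_of_finite fun g ↦ ((ρ g).hom ⁻¹ᵁ U).isOpen
  let U' : X.Opens := ⟨_, hfin⟩
  have hxU' : ∀ g : G, (ρ g).hom x ∈ U' := fun g ↦
    Set.mem_iInter.mpr fun h ↦ by rw [SetLike.mem_coe, Scheme.Hom.mem_preimage, h1]; exact hx _
  have hle : U' ≤ U := fun z hz ↦ by
    have h2 : (ρ (1 : G)).hom z ∈ U := Set.mem_iInter.mp hz 1
    rwa [rho_one_hom] at h2
  let P : G → Ideal Γ(X, U) := fun g ↦ (hU.primeIdealOf ⟨(ρ g).hom x, hx g⟩).asIdeal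
  let Z : Set (PrimeSpectrum Γ(X, U)) := hU.fromSpec.base ⁻¹' (U' : Set X)ᶜ
  have hZ : IsClosed Z := U'.isOpen.isClosed_compl.preimage hU.fromSpec.continuous
  obtain ⟨I, hI⟩ := (PrimeSpectrum.isClosed_iff_zeroLocus_ideal Z).mp hZ
  have hnot : ∀ g, ¬ I ≤ P g := fun g hle' ↦ by
    have : hU.primeIdealOf ⟨(ρ g).hom x, hx g⟩ ∈ Z := hI ▸ hle'
    change hU.fromSpec (hU.primeIdealOf ⟨(ρ g).hom x, hx g⟩) ∈ (U' : Set X)ᶜ at this
    rw [hU.fromSpec_primeIdealOf] at this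
    exact this (hxU' g)
  obtain ⟨f, hfI, hfP⟩ : ∃ f ∈ I, ∀ g, f ∉ P g := by
    by_contra hne
    push Not at hne
    have : (I : Set Γ(X, U)) ⊆ ⋃ g ∈ (↑(Finset.univ : Finset G) : Set G), P g := fun f hf ↦ by
      obtain ⟨g, hg⟩ := hne f hf
      exact Set.mem_biUnion (Finset.mem_coe.mpr (Finset.mem_univ g)) hg
    obtain ⟨g, -, hg⟩ := (Ideal.subset_union_prime 1 1
      (fun g _ _ _ ↦ (hU.primeIdealOf ⟨(ρ g).hom x, hx g⟩).2)).mp this
    exact hnot g hg
  have hD : X.basicOpen f ≤ U' := fun z hz ↦ by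
    by_contra hzU'
    have hzU : z ∈ U := X.basicOpen_le f hz
    have : hU.primeIdealOf ⟨z, hzU⟩ ∈ PrimeSpectrum.zeroLocus (I : Set Γ(X, U)) :=
      hI ▸ (show hU.fromSpec (hU.primeIdealOf ⟨z, hzU⟩) ∈ (U' : Set X)ᶜ by
        rw [hU.fromSpec_primeIdealOf]; exact hzU')
    exact (mem_primeIdealOf_iff hU ⟨z, hzU⟩ f).mp (this hfI) hz
  have e : ∀ g, U' ≤ (ρ g).hom ⁻¹ᵁ U := fun g z hz ↦ Set.mem_iInter.mp hz g
  let N : Γ(X, U') := ∏ g : G, ((ρ g).hom.appLE U U' (e g)).hom f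
  have hmem : ∀ z, z ∈ X.basicOpen N ↔ z ∈ U' ∧ ∀ g : G, (ρ g).hom z ∈ X.basicOpen f := by
    intro z
    by_cases hz : z ∈ U'
    · rw [X.mem_basicOpen N z hz, and_iff_right hz, map_prod, IsUnit.prod_univ_iff]
      refine forall_congr' fun g ↦ ?_
      rw [← X.mem_basicOpen, Scheme.basicOpen_appLE]
      exact ⟨fun h ↦ h.2, fun h ↦ ⟨hz, h⟩⟩
    · exact ⟨fun h ↦ absurd (X.basicOpen_le N h) hz, fun h ↦ absurd h.1 hz⟩
  have hall : ∀ z, (∀ g : G, (ρ g).hom z ∈ X.basicOpen f) → z ∈ X.basicOpen N := fun z h ↦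
    (hmem z).mpr ⟨hD (by have h1 := h 1; rw [rho_one_hom] at h1; exact h1), h⟩
  refine ⟨X.basicOpen N, hall x fun g ↦ ?_, fun g z hz ↦ ?_, ?_⟩
  · exact by_contra fun h ↦ hfP g ((mem_primeIdealOf_iff hU ⟨_, hx g⟩ f).mpr h)
  · refine hall _ fun h ↦ ?_
    rw [← Scheme.Hom.comp_apply, ← rho_mul_hom]
    exact ((hmem z).mp hz).2 _
  · have key : X.basicOpen ((X.presheaf.map (homOfLE hD).op).hom N) = X.basicOpen N := by
      rw [Scheme.basicOpen_res]
      refine inf_eq_right.mpr fun z hz ↦ ?_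
      have h1 := ((hmem z).mp hz).2 1
      rw [rho_one_hom] at h1
      exact h1
    rw [← key]
    exact (hU.basicOpen f).basicOpen _

theorem exists_isQuot (ρ : G →* Aut X)
    (h : ∀ x : X, ∃ U : X.Opens, IsAffineOpen U ∧ ∀ g : G, (ρ g).hom.base x ∈ U) :
    ∃ (Y : Scheme.{u}) (p : X ⟶ Y), SGA1.IsQuot ρ p :=
  exists_isQuot_of_cover ρ fun x ↦
    let ⟨_, hU, hx⟩ := h x
    exists_stable_affine ρ hU hx

end Existence

end Groth.Agent.QuotScheme
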