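import Groth.Agent.QuotScheme.Criterion

/-! # The quotient of an affine scheme by a finite group -/

universe u

open CategoryTheory AlgebraicGeometry TopologicalSpace Opposite

namespace Groth.Agent.QuotScheme

lemma appLE_top_spec {A B : CommRingCat.{u}} (φ : A ⟶ B) {f : Spec B ⟶ Spec A}
    (hf : f = Spec.map φ) (e : (⊤ : (Spec B).Opens) ≤ f ⁻¹ᵁ ⊤) (s : Γ(Spec A, ⊤)) :
    (Scheme.ΓSpecIso B).hom.hom ((f.appLE ⊤ ⊤ e).hom s) =
      φ.hom ((Scheme.ΓSpecIso A).hom.hom s) := by
  subst hf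
  have : (Spec.map φ).appLE ⊤ ⊤ e = (Spec.map φ).appTop := by
    rw [Scheme.Hom.appTop, Scheme.Hom.app_eq_appLE]; rfl
  rw [this]
  exact congr($(Scheme.ΓSpecIso_naturality φ) s)

/-- `Spec A ⟶ Spec A^G` is a quotient by `G`. -/
theorem isQuot_spec {G : Type u} [Group G] [Finite G] {A B : Type u} [CommRing A] [CommRing B]
    [Algebra B A] [MulSemiringAction G A] [SMulCommClass G B A] [Algebra.IsInvariant B A G]
    [FaithfulSMul B A] (ρ : G →* Aut (Spec (CommRingCat.of A)))
    (hρ : Set.range (fun g : G => (ρ g).hom) =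
      Set.range (fun g : G => Spec.map (CommRingCat.ofHom (MulSemiringAction.toRingHom G A g)))) :
    SGA1.IsQuot ρ (Spec.map (CommRingCat.ofHom (algebraMap B A))) := by
  let φ : CommRingCat.of B ⟶ CommRingCat.of A := CommRingCat.ofHom (algebraMap B A)
  have hinv : ∀ g : G, (ρ g).hom ≫ Spec.map φ = Spec.map φ := fun g ↦ by
    obtain ⟨h, hh⟩ := hρ.le ⟨g, rfl⟩
    change Spec.map _ = (ρ g).hom at hh
    rw [← hh, ← Spec.map_comp]
    congr 1
    ext b
    exact smul_algebraMap h b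
  refine of_affine_cover inferInstance hinv fun y ↦ ⟨⊤, isAffineOpen_top _, trivial, ?_, ?_⟩
  · intro a b hab
    apply (ConcreteCategory.bijective_of_isIso (Scheme.ΓSpecIso (CommRingCat.of B)).hom).1
    apply FaithfulSMul.algebraMap_injective B A
    have h1 := congr($(Scheme.ΓSpecIso_naturality φ) a)
    have h2 := congr($(Scheme.ΓSpecIso_naturality φ) b)
    exact h1.symm.trans ((congr_arg _ hab).trans h2)
  · intro s hs
    have key : ∀ h : G, h • (Scheme.ΓSpecIso (CommRingCat.of A)).hom.hom s =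
        (Scheme.ΓSpecIso (CommRingCat.of A)).hom.hom s := fun h ↦ by
      obtain ⟨g, hg⟩ := hρ.ge ⟨h, rfl⟩
      have e : (⊤ : (Spec (CommRingCat.of A)).Opens) ≤ (ρ g).hom ⁻¹ᵁ ⊤ := fun _ _ ↦ trivial
      have := appLE_top_spec (CommRingCat.ofHom (MulSemiringAction.toRingHom G A h)) hg e s
      exact this.symm.trans (congr_arg _ (hs g e))
    obtain ⟨b, hb⟩ := Algebra.IsInvariant.isInvariant (A := B) (G := G) _ key
    refine ⟨(Scheme.ΓSpecIso (CommRingCat.of B)).inv.hom b, ?_⟩
    apply (ConcreteCategory.bijective_of_isIso (Scheme.ΓSpecIso (CommRingCat.of A)).hom).1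
    have h1 := congr($(Scheme.ΓSpecIso_naturality φ) ((Scheme.ΓSpecIso (CommRingCat.of B)).inv.hom b))
    refine h1.trans (Eq.trans ?_ hb)
    exact congr_arg (algebraMap B A) congr($((Scheme.ΓSpecIso (CommRingCat.of B)).inv_hom_id) b)

end Groth.Agent.QuotScheme
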