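import Groth.Agent.QuotScheme.Separable
import Groth.Agent.QuotScheme.Props
import Mathlib.AlgebraicGeometry.Morphisms.Etale
import Mathlib.RingTheory.RingHom.Etale

/-! # Quotients of étale schemes by finite groups are étale -/

universe u

open CategoryTheory AlgebraicGeometry Limits

namespace Groth.Agent.QuotScheme

lemma etale_sourceStable :
    RingHom.StableUnderCompositionWithLocalizationAwaySource RingHom.Etale.{u, u} :=
  (RingHom.Etale.stableUnderComposition.stableUnderCompositionWithLocalizationAway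
    fun R S _ _ _ r _ ↦ RingHom.etale_algebraMap.mpr
      (Algebra.Etale.of_isLocalizationAway (R := R) (A := S) r)).1

variable {X X' Y : Scheme.{u}} {G : Type u} [Group G] [Finite G] {ρ : G →* Aut X} {f : X ⟶ Y}
  {p : X ⟶ X'} {q : X' ⟶ Y}

lemma etale_local (hp : SGA1.IsQuot ρ p) [IsLocallyNoetherian Y] [Etale f] (hq : p ≫ q = f)
    {W : Y.Opens} (hW : IsAffineOpen W) {U : X'.Opens} (hU : IsAffineOpen U)
    (e : U ≤ q ⁻¹ᵁ W) :
    (p.app U).hom.Etale ∧ (p.app U).hom.Finite ∧ (q.appLE W U e).hom.Etale ∧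
      ((f.appLE W (p ⁻¹ᵁ U) (hq ▸ p.preimage_mono e)).hom.Finite →
        (q.appLE W U e).hom.Finite) := by
  have := hp.affine
  have hV : IsAffineOpen (p ⁻¹ᵁ U) := hU.preimage p
  let := sectionsAction hp.inv U
  let := sectionsAlgebra p U
  have := isInvariant_sections hp U
  have := smulCommClass_sections hp U
  have e' : p ⁻¹ᵁ U ≤ f ⁻¹ᵁ W := hq ▸ p.preimage_mono e
  have hcomp : q.appLE W U e ≫ p.app U = f.appLE W (p ⁻¹ᵁ U) e' := by
    subst hq
    rw [Scheme.Hom.app_eq_appLE, Scheme.Hom.appLE_comp_appLE]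
  have hf : (f.appLE W (p ⁻¹ᵁ U) e').hom.Etale := f.etale_appLE hW hV e'
  let : Algebra Γ(Y, W) Γ(X', U) := (q.appLE W U e).hom.toAlgebra
  let : Algebra Γ(Y, W) Γ(X, p ⁻¹ᵁ U) := (f.appLE W (p ⁻¹ᵁ U) e').hom.toAlgebra
  have : IsScalarTower Γ(Y, W) Γ(X', U) Γ(X, p ⁻¹ᵁ U) :=
    .of_algebraMap_eq fun r ↦ (congr($hcomp r)).symm
  have : IsNoetherianRing Γ(Y, W) := IsLocallyNoetherian.component_noetherian ⟨W, hW⟩
  have : Algebra.Etale Γ(Y, W) Γ(X, p ⁻¹ᵁ U) := hf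
  obtain ⟨h1, h2, h3, h4⟩ := etale_invariants G (A := Γ(X, p ⁻¹ᵁ U)) (B := Γ(X', U))
    (C := Γ(Y, W)) (hp.injective U)
  exact ⟨h1, h2, h3, h4⟩

theorem etale_of_isQuot (hp : SGA1.IsQuot ρ p) [IsLocallyNoetherian Y] [Etale f]
    (hq : p ≫ q = f) : Etale p ∧ Etale q := by
  have := hp.affine
  constructor
  · refine (HasRingHomProperty.iff_exists_appLE (P := @Etale) etale_sourceStable).mpr fun x ↦ ?_
    obtain ⟨W, hW, hxW, -⟩ := exists_affine_nbhd (Y := Y) (O := ⊤) (y := q (p x)) trivial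
    obtain ⟨U, hU, hxU, hle⟩ := exists_affine_nbhd (Y := X') (O := q ⁻¹ᵁ W) (y := p x) hxW
    refine ⟨⟨U, hU⟩, ⟨p ⁻¹ᵁ U, hU.preimage p⟩, hxU, le_rfl, ?_⟩
    have := (etale_local hp hq hW hU hle).1
    rwa [Scheme.Hom.app_eq_appLE] at this
  · refine (HasRingHomProperty.iff_exists_appLE (P := @Etale) etale_sourceStable).mpr fun x ↦ ?_
    obtain ⟨W, hW, hxW, -⟩ := exists_affine_nbhd (Y := Y) (O := ⊤) (y := q x) trivial
    obtain ⟨U, hU, hxU, hle⟩ := exists_affine_nbhd (Y := X') (O := q ⁻¹ᵁ W) (y := x) hxW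
    exact ⟨⟨W, hW⟩, ⟨U, hU⟩, hxU, hle, (etale_local hp hq hW hU hle).2.2.1⟩

theorem isFinite_of_isFinite (hp : SGA1.IsQuot ρ p) [IsLocallyNoetherian Y] [Etale f]
    [IsFinite f] (hq : p ≫ q = f) : IsFinite q := by
  have : IsAffineHom q := (isAffineHom_iff hp hq).mp inferInstance
  refine { finite_app := fun W hW ↦ ?_ }
  have h := (etale_local hp hq hW (hW.preimage q) le_rfl).2.2.2 (by
    subst hq
    have := (p ≫ q).finite_app W hW
    rwa [Scheme.Hom.app_eq_appLE] at this)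
  rwa [← Scheme.Hom.app_eq_appLE] at h

end Groth.Agent.QuotScheme
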