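import Groth.Agent.QuotScheme.FreeAlg
import Groth.Agent.QuotScheme.EtaleQuot
import Groth.Agent.EtaleSections.Basic
import Mathlib.AlgebraicGeometry.Limits
import Mathlib.FieldTheory.IsAlgClosed.AlgebraicClosure

/-! # Free quotients by finite groups -/

universe u

open CategoryTheory AlgebraicGeometry Limits

namespace Groth.Agent.QuotScheme

variable {X Y : Scheme.{u}} {G : Type u} [Group G] {ρ : G →* Aut X} {p : X ⟶ Y}

/-- freeness on geometric points -/
def IsFree (ρ : G →* Aut X) : Prop :=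
  ∀ (K : Type u) [Field K] [IsAlgClosed K] (ξ : Spec (CommRingCat.of K) ⟶ X) (g : G),
    ξ ≫ (ρ g).hom = ξ → g = 1

lemma eq_of_comp_eq (hfree : IsFree ρ) {K : Type u} [Field K] {ξ : Spec (CommRingCat.of K) ⟶ X}
    {g h : G} (e : ξ ≫ (ρ g).hom = ξ ≫ (ρ h).hom) : g = h := by
  have h1 : ξ ≫ (ρ (h⁻¹ * g)).hom = ξ := by
    rw [rho_mul_hom, reassoc_of% e, ← rho_mul_hom, inv_mul_cancel, rho_one_hom, Category.comp_id]
  let ξ' : Spec (CommRingCat.of (AlgebraicClosure K)) ⟶ X :=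
    Spec.map (CommRingCat.ofHom (algebraMap K (AlgebraicClosure K))) ≫ ξ
  have h2 := hfree (AlgebraicClosure K) ξ' (h⁻¹ * g) (by rw [Category.assoc, h1])
  exact (inv_mul_eq_one.mp h2).symm

variable {U : Y.Opens}

lemma comp_fromSpec_rho (hinv : ∀ g : G, (ρ g).hom ≫ p = p) (hV : IsAffineOpen (p ⁻¹ᵁ U))
    {K : CommRingCat.{u}} (φ : Γ(X, p ⁻¹ᵁ U) ⟶ K) (g : G) :
    Spec.map φ ≫ hV.fromSpec ≫ (ρ g).hom =
      Spec.map (CommRingCat.ofHom (act hinv U g⁻¹) ≫ φ) ≫ hV.fromSpec := by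
  have e : CommRingCat.ofHom (act hinv U g⁻¹) = (ρ g).hom.appLE (p ⁻¹ᵁ U) (p ⁻¹ᵁ U)
      (SGA1.preimage_le_of_inv ρ p hinv g U) := by
    rw [act, CommRingCat.ofHom_hom]
    exact appLE_congr_hom (by rw [inv_inv]) _ _ _ _
  rw [e, Spec.map_comp, Category.assoc, hV.SpecMap_appLE_fromSpec (ρ g).hom hV]

lemma span_eq_top_of_free (hinv : ∀ g : G, (ρ g).hom ≫ p = p) (hV : IsAffineOpen (p ⁻¹ᵁ U))
    (hfree : IsFree ρ) :
    letI := sectionsAction hinv U
    ∀ g : G, g ≠ 1 → Ideal.span (Set.range fun a : Γ(X, p ⁻¹ᵁ U) ↦ g • a - a) = ⊤ := by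
  let := sectionsAction hinv U
  intro g hg
  by_contra hne
  obtain ⟨M, hM, hle⟩ := Ideal.exists_le_maximal _ hne
  let : Field (Γ(X, p ⁻¹ᵁ U) ⧸ M) := Ideal.Quotient.field M
  let φ : Γ(X, p ⁻¹ᵁ U) ⟶ CommRingCat.of (AlgebraicClosure (Γ(X, p ⁻¹ᵁ U) ⧸ M)) :=
    CommRingCat.ofHom ((algebraMap (Γ(X, p ⁻¹ᵁ U) ⧸ M) _).comp (Ideal.Quotient.mk M))
  have hφ : CommRingCat.ofHom (act hinv U g) ≫ φ = φ := by
    ext a
    exact congr_arg (algebraMap _ _) (Ideal.Quotient.eq.mpr (hle (Ideal.subset_span ⟨a, rfl⟩)))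
  have h1 : (Spec.map φ ≫ hV.fromSpec) ≫ (ρ g⁻¹).hom = Spec.map φ ≫ hV.fromSpec := by
    rw [Category.assoc, comp_fromSpec_rho hinv hV φ g⁻¹, inv_inv, hφ]
  exact hg (inv_eq_one.mp (hfree _ _ _ h1))

theorem etaleHom_of_free [Finite G] (hp : SGA1.IsQuot ρ p) (hfree : IsFree ρ) : Etale p := by
  have := hp.affine
  refine (HasRingHomProperty.iff_exists_appLE (P := @Etale) etale_sourceStable).mpr fun x ↦ ?_
  obtain ⟨U, hU, hxU, -⟩ := exists_affine_nbhd (Y := Y) (O := ⊤) (y := p x) trivial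
  have hV : IsAffineOpen (p ⁻¹ᵁ U) := hU.preimage p
  refine ⟨⟨U, hU⟩, ⟨p ⁻¹ᵁ U, hV⟩, hxU, le_rfl, ?_⟩
  let := sectionsAction hp.inv U
  let := sectionsAlgebra p U
  have := isInvariant_sections hp U
  have := smulCommClass_sections hp U
  obtain ⟨_, _, _, _⟩ := etale_of_free (G := G) (A := Γ(X, p ⁻¹ᵁ U)) (B := Γ(Y, U))
    (span_eq_top_of_free hp.inv hV hfree) (hp.injective U)
  have h : Algebra.Etale Γ(Y, U) Γ(X, p ⁻¹ᵁ U) := .of_formallyUnramified_of_flat
  rw [← Scheme.Hom.app_eq_appLE]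
  exact h

/-- `G` is transitive on field valued points over the same point of the quotient -/
theorem exists_comp_eq [Finite G] (hp : SGA1.IsQuot ρ p) {K : Type u} [Field K]
    (ξ₁ ξ₂ : Spec (CommRingCat.of K) ⟶ X) (h : ξ₁ ≫ p = ξ₂ ≫ p) :
    ∃ g : G, ξ₁ ≫ (ρ g).hom = ξ₂ := by
  obtain ⟨U, hU, hyU, -⟩ := exists_affine_nbhd (Y := Y) (O := ⊤)
    (y := p (ξ₁ (IsLocalRing.closedPoint K))) trivial
  have := hp.affine
  have hV : IsAffineOpen (p ⁻¹ᵁ U) := hU.preimage p
  let := sectionsAction hp.inv U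
  let := sectionsAlgebra p U
  have := isInvariant_sections hp U
  have hfac : ∀ ξ : Spec (CommRingCat.of K) ⟶ X, p (ξ (IsLocalRing.closedPoint K)) ∈ U →
      ∃ φ : Γ(X, p ⁻¹ᵁ U) ⟶ CommRingCat.of K, Spec.map φ ≫ hV.fromSpec = ξ := by
    intro ξ hξ
    have hr : Set.range ξ ⊆ Set.range hV.fromSpec := by
      rintro _ ⟨t, rfl⟩
      rw [hV.range_fromSpec]
      obtain rfl : t = IsLocalRing.closedPoint K := Subsingleton.elim _ _
      exact hξ
    exact ⟨Spec.preimage (IsOpenImmersion.lift hV.fromSpec ξ hr),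
      by rw [Spec.map_preimage, IsOpenImmersion.lift_fac]⟩
  obtain ⟨φ₁, rfl⟩ := hfac ξ₁ hyU
  obtain ⟨φ₂, rfl⟩ := hfac ξ₂ (congr($h (IsLocalRing.closedPoint K)) ▸ hyU)
  have h' : p.app U ≫ φ₁ = p.app U ≫ φ₂ := by
    apply Spec.map_injective
    rw [← cancel_mono hU.fromSpec, Scheme.Hom.app_eq_appLE, Spec.map_comp, Spec.map_comp,
      Category.assoc, Category.assoc, hU.SpecMap_appLE_fromSpec p hV, ← Category.assoc,
      ← Category.assoc]
    exact h
  obtain ⟨g, hg⟩ := exists_smul_eq_of_algebraMap_eq (G := G) (A := Γ(X, p ⁻¹ᵁ U)) (B := Γ(Y, U))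
    φ₁.hom φ₂.hom (RingHom.ext fun r ↦ congr($h' r))
  refine ⟨g⁻¹, ?_⟩
  rw [Category.assoc, comp_fromSpec_rho hp.inv hV φ₁ g⁻¹, inv_inv]
  congr 2
  ext a
  exact hg a

/-- sections `σ g` of a separated étale morphism which are distinct at every point and exhaust all
geometric points form a decomposition of the source -/
theorem isIso_sigma_desc {T Z : Scheme.{u}} {ι : Type u} (π : T ⟶ Z) [Etale π]
    (σ : ι → (Z ⟶ T)) (hσ : ∀ i, σ i ≫ π = 𝟙 Z)
    (hdisj : ∀ i j z z', σ i z = σ j z' → i = j)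
    (hcov : ∀ t : T, ∃ i z, σ i z = t) : IsIso (Sigma.desc σ) := by
  have : ∀ i, IsOpenImmersion (σ i) := fun i ↦
    EtaleSections.isOpenImmersion_section π (σ i) (hσ i)
  obtain ⟨hc⟩ := nonempty_isColimit_cofanMk_of σ
    (top_le_iff.mp fun t _ ↦ by
      obtain ⟨i, z, hz⟩ := hcov t
      exact TopologicalSpace.Opens.mem_iSup.mpr ⟨i, ⟨z, hz⟩⟩)
    (fun i j hij ↦ by
      rw [Function.onFun, ← TopologicalSpace.Opens.coe_disjoint]
      refine Set.disjoint_left.mpr fun t ⟨z, hz⟩ ⟨z', hz'⟩ ↦ hij (hdisj i j z z' (hz.trans hz'.symm)))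
  have : Sigma.desc σ = ((coproductIsCoproduct _).coconePointUniqueUpToIso hc).hom :=
    Sigma.hom_ext _ _ fun i ↦ by
      simp only [colimit.ι_desc, Cofan.mk_pt, Cofan.mk_ι_app]
      exact ((coproductIsCoproduct _).comp_coconePointUniqueUpToIso_hom hc ⟨i⟩).symm
  rw [this]
  infer_instance

/-- two sections of an étale morphism through the same point agree at its residue field -/
theorem fromSpecResidueField_comp_eq_of_sections {T Z : Scheme.{u}} (π : T ⟶ Z) [Etale π]
    (σ σ' : Z ⟶ T) (hσ : σ ≫ π = 𝟙 Z) (hσ' : σ' ≫ π = 𝟙 Z) (z : Z) (hz : σ z = σ' z) :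
    Z.fromSpecResidueField z ≫ σ = Z.fromSpecResidueField z ≫ σ' := by
  have := EtaleSections.isOpenImmersion_section π σ hσ
  have := EtaleSections.isOpenImmersion_section π σ' hσ'
  let W : Z.Opens := σ ⁻¹ᵁ σ'.opensRange
  have hW : Set.range (W.ι ≫ σ) ⊆ Set.range σ' := by
    rintro _ ⟨w, rfl⟩
    exact w.2
  have hl : IsOpenImmersion.lift σ' (W.ι ≫ σ) hW = W.ι := by
    have := congr_arg (· ≫ π) (IsOpenImmersion.lift_fac σ' (W.ι ≫ σ) hW)
    simp only [Category.assoc, hσ, hσ', Category.comp_id] at this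
    exact this
  have key : W.ι ≫ σ = W.ι ≫ σ' := by
    conv_lhs => rw [← IsOpenImmersion.lift_fac σ' (W.ι ≫ σ) hW, hl]
  have hr : Set.range (Z.fromSpecResidueField z) ⊆ Set.range W.ι := by
    rw [Scheme.range_fromSpecResidueField, Scheme.Opens.range_ι]
    simpa [W] using ⟨z, hz.symm⟩
  rw [← IsOpenImmersion.lift_fac W.ι (Z.fromSpecResidueField z) hr, Category.assoc, Category.assoc,
    key]

theorem isIso_of_section [Finite G] (hp : SGA1.IsQuot ρ p) (hfree : IsFree ρ) (s : Y ⟶ X)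
    (hs : s ≫ p = 𝟙 Y) : IsIso (Sigma.desc (fun g : G ↦ s ≫ (ρ g).hom)) := by
  have := etaleHom_of_free hp hfree
  refine isIso_sigma_desc p _ (fun g ↦ by rw [Category.assoc, hp.inv, hs]) ?_ ?_
  · intro g g' y y' h
    have hy : y = y' := by
      have := congr_arg p.base h
      rwa [← Scheme.Hom.comp_apply, ← Scheme.Hom.comp_apply, Category.assoc, Category.assoc, hp.inv,
        hp.inv, hs] at this
    subst hy
    have := fromSpecResidueField_comp_eq_of_sections p (s ≫ (ρ g).hom) (s ≫ (ρ g').hom)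
      (by rw [Category.assoc, hp.inv, hs]) (by rw [Category.assoc, hp.inv, hs]) y h
    exact eq_of_comp_eq hfree (ξ := Y.fromSpecResidueField y ≫ s)
      ((Category.assoc _ _ _).trans (this.trans (Category.assoc _ _ _).symm))
  · intro x
    obtain ⟨g, hg⟩ := (orbit_iff hp (s (p x)) x).mp (by
      rw [← Scheme.Hom.comp_apply, hs]; rfl)
    exact ⟨g, p x, hg⟩

theorem isIso_graphs [Finite G] (hp : SGA1.IsQuot ρ p) (hfree : IsFree ρ) :
    IsIso (Sigma.desc (fun g : G => pullback.lift (𝟙 X) (ρ g).hom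
      ((Category.id_comp p).trans (hp.inv g).symm)) : (∐ fun _ : G => X) ⟶ pullback p p) := by
  have := etaleHom_of_free hp hfree
  refine isIso_sigma_desc (pullback.fst p p) _ (fun g ↦ pullback.lift_fst _ _ _) ?_ ?_
  · intro g g' x x' h
    obtain rfl : x = x' := by
      have := congr_arg (pullback.fst p p).base h
      rwa [← Scheme.Hom.comp_apply, ← Scheme.Hom.comp_apply, pullback.lift_fst, pullback.lift_fst]
        at this
    have := congr_arg (· ≫ pullback.snd p p) (fromSpecResidueField_comp_eq_of_sections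
      (pullback.fst p p) _ _ (pullback.lift_fst _ _ _) (pullback.lift_fst _ _ _) x h)
    simp only [Category.assoc, pullback.lift_snd] at this
    exact eq_of_comp_eq hfree this
  · intro t
    obtain ⟨g, hg⟩ := exists_comp_eq hp
      ((pullback p p).fromSpecResidueField t ≫ pullback.fst p p)
      ((pullback p p).fromSpecResidueField t ≫ pullback.snd p p)
      ((Category.assoc _ _ _).trans ((congr_arg _ pullback.condition).trans (Category.assoc _ _ _).symm))
    refine ⟨g, pullback.fst p p t, ?_⟩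
    have e : ((pullback p p).fromSpecResidueField t ≫ pullback.fst p p) ≫
        pullback.lift (𝟙 X) (ρ g).hom ((Category.id_comp p).trans (hp.inv g).symm) =
        (pullback p p).fromSpecResidueField t := by
      apply pullback.hom_ext
      · rw [Category.assoc, pullback.lift_fst, Category.comp_id]
      · exact (Category.assoc _ _ _).trans ((congr_arg _ (pullback.lift_snd _ _ _)).trans hg)
    have := congr($e (IsLocalRing.closedPoint _))
    exact (congr_arg (fun z ↦ (pullback.lift (𝟙 X) (ρ g).hom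
      ((Category.id_comp p).trans (hp.inv g).symm)).base ((pullback.fst p p).base z))
      (Scheme.fromSpecResidueField_apply _ _).symm).trans
      (this.trans (Scheme.fromSpecResidueField_apply _ _))

theorem isFree_of_etale [Finite G] (hp : SGA1.IsQuot ρ p) [Etale p] [ConnectedSpace X]
    (hfaith : Function.Injective ρ) : IsFree ρ := by
  intro K _ _ ξ g h
  have := hp.affine
  have e := EtaleSections.eq_of_connected p (ρ g).hom (𝟙 X) ξ (by rw [h, Category.comp_id])
    (by rw [hp.inv, Category.id_comp])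
  exact hfaith (by rw [map_one]; exact Iso.ext e)

theorem existsUnique_aut [Finite G] (hp : SGA1.IsQuot ρ p) [Etale p] [ConnectedSpace X]
    (hfaith : Function.Injective ρ) (u : Aut X) (hu : u.hom ≫ p = p) : ∃! g : G, ρ g = u := by
  have := hp.affine
  obtain ⟨x⟩ := (inferInstance : Nonempty X)
  obtain ⟨g, hg⟩ := exists_comp_eq hp (X.fromSpecResidueField x) (X.fromSpecResidueField x ≫ u.hom)
    ((congr_arg _ hu.symm).trans (Category.assoc _ _ _).symm)
  have e := EtaleSections.eq_of_connected p (ρ g).hom u.hom (X.fromSpecResidueField x) hg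
    (by rw [hp.inv, hu])
  exact ⟨g, Iso.ext e, fun g' hg' ↦ hfaith (hg'.trans (Iso.ext e).symm)⟩

end Groth.Agent.QuotScheme
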