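import Mathlib.RingTheory.Invariant.Basic
import Mathlib.RingTheory.Unramified.Finite
import Mathlib.RingTheory.Smooth.Fiber
import Mathlib.RingTheory.Finiteness.Cardinality
import Mathlib.LinearAlgebra.TensorProduct.Finiteness
import Mathlib.RingTheory.Adjoin.Tower
import Mathlib.RingTheory.RingHom.Etale
import Mathlib.RingTheory.Etale.Kaehler
import Mathlib.RingTheory.Ideal.GoingUp
import Mathlib.RingTheory.Flat.FaithfullyFlat.Algebra
import Mathlib.Tactic.LinearCombination

/-! # Finite group invariants with a separability element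

`B = A^G`.  A family `x i, y i` with `∑ x i * y i = 1` such that each `e g := ∑ x i * (g • y i)`
satisfies `e g * (g • a - a) = 0` makes `A` finite projective over `B`: the "sum over the distinct
conjugates" is a `B`-linear map `A → B` giving a dual basis. -/

universe u

open scoped TensorProduct

namespace Groth.Agent.QuotScheme

variable {G A : Type*} [Group G] [CommRing A] [MulSemiringAction G A]

/-- separability element for a group action -/
structure SepDatum (G A : Type*) [Group G] [CommRing A] [MulSemiringAction G A]
    {ι : Type*} [Fintype ι] (x y : ι → A) : Prop where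
  sum_one : ∑ i, x i * y i = 1
  mul_sub : ∀ (g : G) (a : A), (∑ i, x i * (g • y i)) * (g • a - a) = 0

namespace SepDatum

variable {ι : Type*} [Fintype ι] {x y : ι → A}

/-- indicator of `l = k` -/
def ind (x y : ι → A) (l k : G) : A := ∑ i, (l • x i) * (k • y i)

lemma ind_mul_smul (h : SepDatum G A x y) (l k : G) (a : A) :
    ind x y l k * (k • a) = ind x y l k * (l • a) := by
  have := congr_arg (l • ·) (h.mul_sub (l⁻¹ * k) a)
  simp only [smul_mul', smul_sub, smul_smul, mul_inv_cancel_left, smul_zero, Finset.smul_sum] at this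
  rw [← sub_eq_zero, ← _root_.mul_sub]
  exact this

lemma ind_self (h : SepDatum G A x y) (l : G) : ind x y l l = 1 := by
  simp only [ind, ← smul_mul', ← Finset.smul_sum, h.sum_one, smul_one]

lemma ind_comm (h : SepDatum G A x y) (l k : G) : ind x y l k = ind x y k l := by
  have key : ∀ l k : G, ind x y l k * ind x y k l = ind x y l k := fun l k ↦ by
    conv_lhs => arg 2; rw [ind]
    rw [Finset.mul_sum]
    have : ∀ i, ind x y l k * ((k • x i) * (l • y i)) = ind x y l k * (l • (x i * y i)) := fun i ↦ by
      rw [← mul_assoc, h.ind_mul_smul, smul_mul', mul_assoc]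
    simp only [this, ← Finset.mul_sum, ← Finset.smul_sum, h.sum_one, smul_one, mul_one]
  rw [← key l k, mul_comm, key]

lemma ind_mul_ind (h : SepDatum G A x y) (l m k : G) :
    ind x y l m * ind x y m k = ind x y l m * ind x y l k := by
  rw [show ind x y m k = ∑ i, (m • x i) * (k • y i) from rfl,
    show ind x y l k = ∑ i, (l • x i) * (k • y i) from rfl, Finset.mul_sum, Finset.mul_sum]
  refine Finset.sum_congr rfl fun i _ ↦ ?_
  rw [← mul_assoc, h.ind_mul_smul, mul_assoc]

/-- weights selecting one representative among equal conjugates -/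
lemma exists_weight [Fintype G] (h : SepDatum G A x y) :
    ∃ w : G → A, ∀ l, ∑ k, w k * ind x y l k = 1 := by
  classical
  have key : ∀ s : Finset G, ∃ w : G → A,
      ∀ l, ∑ k ∈ s, w k * ind x y l k = 1 - ∏ k ∈ s, (1 - ind x y l k) := by
    intro s
    induction s using Finset.induction with
    | empty => exact ⟨0, fun l ↦ by simp⟩
    | insert m s hm ih =>
      obtain ⟨w, hw⟩ := ih
      refine ⟨Function.update w m (∏ k ∈ s, (1 - ind x y m k)), fun l ↦ ?_⟩
      rw [Finset.sum_insert hm, Finset.prod_insert hm, Function.update_self]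
      have e1 : ∑ k ∈ s, Function.update w m (∏ k ∈ s, (1 - ind x y m k)) k * ind x y l k =
          ∑ k ∈ s, w k * ind x y l k :=
        Finset.sum_congr rfl fun k hk ↦ by
          rw [Function.update_of_ne (by rintro rfl; exact hm hk)]
      have e2 : ∀ t : Finset G, ind x y l m * ∏ k ∈ t, (1 - ind x y m k) =
          ind x y l m * ∏ k ∈ t, (1 - ind x y l k) := by
        intro t
        induction t using Finset.induction with
        | empty => rfl
        | insert j t hj iht =>
          rw [Finset.prod_insert hj, Finset.prod_insert hj]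
          linear_combination (1 - ind x y m j) * iht
            - (∏ k ∈ t, (1 - ind x y l k)) * h.ind_mul_ind l m j
      rw [e1, hw, mul_comm _ (ind x y l m), e2]
      ring
  obtain ⟨w, hw⟩ := key Finset.univ
  refine ⟨w, fun l ↦ ?_⟩
  rw [hw, Finset.prod_eq_zero (Finset.mem_univ l) (by rw [h.ind_self, sub_self]), sub_zero]

variable {B : Type*} [CommRing B] [Algebra B A] [SMulCommClass G B A]
  [Algebra.IsInvariant B A G]

/-- dual basis: `a = ∑ (f i a) • x i` -/
lemma exists_dual [Finite G] (h : SepDatum G A x y)
    (hBA : Function.Injective (algebraMap B A)) :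
    ∃ f : ι → (A →ₗ[B] B), ∀ a, ∑ i, f i a • x i = a := by
  cases nonempty_fintype G
  obtain ⟨w, hw⟩ := h.exists_weight
  let S : A →ₗ[B] A :=
    { toFun := fun a ↦ ∑ k, w k * (k • a)
      map_add' := fun a b ↦ by simp [smul_add, mul_add, Finset.sum_add_distrib]
      map_smul' := fun r a ↦ by
        simp only [RingHom.id_apply, Finset.smul_sum, smul_comm _ r, mul_smul_comm] }
  have hinv : ∀ (g : G) a, g • S a = S a := fun g a ↦ by
    let w' : G → A := fun m ↦ g • w (g⁻¹ * m)
    have hw' : ∀ l, ∑ m, w' m * ind x y l m = 1 := fun l ↦ by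
      have := congr_arg (g • ·) (hw (g⁻¹ * l))
      simp only [ind, Finset.smul_sum, smul_mul', smul_smul, smul_one, mul_inv_cancel_left] at this
      rw [← this]
      refine (Fintype.sum_equiv (Equiv.mulLeft g) _ _ fun k ↦ ?_).symm
      simp [w', ind]
    have h1 : g • S a = ∑ m, w' m * (m • a) := by
      simp only [S, LinearMap.coe_mk, AddHom.coe_mk, Finset.smul_sum, smul_mul', smul_smul]
      exact Fintype.sum_equiv (Equiv.mulLeft g) _ _ fun k ↦ by simp [w']
    rw [h1]
    calc ∑ m, w' m * (m • a) = ∑ m, ∑ l, w' m * w l * ind x y m l * (m • a) := by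
          refine Finset.sum_congr rfl fun m _ ↦ ?_
          simp only [mul_assoc, ← Finset.mul_sum]
          simp only [← mul_assoc, ← Finset.sum_mul]
          rw [hw m, mul_one]
      _ = ∑ l, ∑ m, w' m * w l * ind x y l m * (l • a) := by
          rw [Finset.sum_comm]
          refine Finset.sum_congr rfl fun l _ ↦ Finset.sum_congr rfl fun m _ ↦ ?_
          rw [mul_assoc, h.ind_comm m l, h.ind_mul_smul, ← mul_assoc]
      _ = S a := by
          refine Finset.sum_congr rfl fun l _ ↦ ?_
          rw [← Finset.sum_mul]
          refine congr_arg (· * (l • a)) ?_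
          calc ∑ m, w' m * w l * ind x y l m = w l * ∑ m, w' m * ind x y l m := by
                rw [Finset.mul_sum]; exact Finset.sum_congr rfl fun m _ ↦ by ring
            _ = w l := by rw [hw' l, mul_one]
  have hrange : ∀ a, S a ∈ LinearMap.range (Algebra.linearMap B A) := fun a ↦
    Algebra.IsInvariant.isInvariant (A := B) (G := G) _ fun g ↦ hinv g a
  let T : A →ₗ[B] B :=
    (LinearEquiv.ofInjective (Algebra.linearMap B A) hBA).symm.toLinearMap ∘ₗ S.codRestrict _ hrange
  have hT : ∀ a, algebraMap B A (T a) = S a := fun a ↦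
    congr_arg Subtype.val ((LinearEquiv.ofInjective (Algebra.linearMap B A) hBA).apply_symm_apply
      (⟨S a, hrange a⟩ : LinearMap.range (Algebra.linearMap B A)))
  refine ⟨fun i ↦ T ∘ₗ LinearMap.mulLeft B (y i), fun a ↦ ?_⟩
  calc ∑ i, (T ∘ₗ LinearMap.mulLeft B (y i)) a • x i
      = ∑ i, ∑ k, w k * (x i * (k • y i) * (k • a)) := by
        refine Finset.sum_congr rfl fun i _ ↦ ?_
        rw [LinearMap.comp_apply, LinearMap.mulLeft_apply, Algebra.smul_def, hT]
        simp only [S, LinearMap.coe_mk, AddHom.coe_mk, Finset.sum_mul, smul_mul']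
        exact Finset.sum_congr rfl fun k _ ↦ by ring
    _ = ∑ k, w k * (ind x y 1 k * (k • a)) := by
        rw [Finset.sum_comm]
        simp only [ind, one_smul, Finset.sum_mul, Finset.mul_sum]
    _ = a := by
        rw [Finset.sum_congr rfl fun k _ ↦ show w k * (ind x y 1 k * (k • a)) =
            w k * ind x y 1 k * a by rw [h.ind_mul_smul, one_smul, mul_assoc],
          ← Finset.sum_mul, hw, one_mul]

theorem finite_projective [Finite G] (h : SepDatum G A x y)
    (hBA : Function.Injective (algebraMap B A)) : Module.Finite B A ∧ Module.Projective B A := by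
  obtain ⟨f, hf⟩ := h.exists_dual hBA
  let π : (ι → B) →ₗ[B] A := Fintype.linearCombination B x
  let s : A →ₗ[B] (ι → B) := LinearMap.pi f
  have hπs : π ∘ₗ s = LinearMap.id := by
    refine LinearMap.ext fun a ↦ ?_
    simpa [π, s, Fintype.linearCombination_apply] using hf a
  exact ⟨Module.Finite.of_surjective π fun a ↦ ⟨s a, LinearMap.congr_fun hπs a⟩,
    Module.Projective.of_split s π hπs⟩

end SepDatum

variable {B C : Type*} [CommRing B] [CommRing C] [Algebra B A] [SMulCommClass G B A]
  [Algebra.IsInvariant B A G]

/-- The separability idempotent of an unramified algebra is a separability element for any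
group of automorphisms. -/
lemma exists_sepDatum_of_unramified (C : Type*) [CommRing C] [Algebra C A] [SMulCommClass G C A]
    [Algebra.FormallyUnramified C A] [Algebra.EssFiniteType C A] :
    ∃ (s : Finset (A × A)), SepDatum G A (fun i : s ↦ i.1.1) (fun i : s ↦ i.1.2) := by
  obtain ⟨s, hs⟩ := TensorProduct.exists_finset (Algebra.FormallyUnramified.elem C A)
  refine ⟨s, ?_, fun g a ↦ ?_⟩
  · have := Algebra.FormallyUnramified.lmul_elem (R := C) (S := A)
    rw [hs, map_sum] at this
    rw [Finset.sum_coe_sort s fun i ↦ i.1 * i.2]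
    simpa using this
  · let σ : A →ₐ[C] A :=
      { MulSemiringAction.toRingHom G A g with
        commutes' := fun r ↦ smul_algebraMap g r }
    let φ : A ⊗[C] A →ₐ[C] A := Algebra.TensorProduct.lift (AlgHom.id C A) σ fun _ _ ↦ .all _ _
    have hφ : φ (Algebra.FormallyUnramified.elem C A) = ∑ i : s, i.1.1 * (g • i.1.2) := by
      rw [hs, map_sum, Finset.sum_coe_sort s fun i ↦ i.1 * (g • i.2)]
      exact Finset.sum_congr rfl fun i _ ↦ by simp [φ, σ] <;> rfl
    have := congr_arg φ (Algebra.FormallyUnramified.one_tmul_mul_elem (R := C) (S := A) a)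
    rw [map_mul, map_mul, hφ] at this
    have h1 : φ (1 ⊗ₜ[C] a) = g • a := by simp [φ, σ] <;> rfl
    have h2 : φ (a ⊗ₜ[C] 1) = a := by simp [φ, σ]
    rw [h1, h2] at this
    linear_combination this

end Groth.Agent.QuotScheme

namespace Groth.Agent.QuotScheme

open TensorProduct in
lemma flat_of_faithfullyFlat_tower (C B A : Type u) [CommRing C] [CommRing B] [CommRing A]
    [Algebra C B] [Algebra B A] [Algebra C A] [IsScalarTower C B A] [Module.FaithfullyFlat B A]
    [Module.Flat C A] : Module.Flat C B := by
  rw [Module.Flat.iff_lTensor_preserves_injective_linearMap]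
  intro N N' _ _ _ _ i hi
  have key : Function.Injective ((AlgebraTensorModule.lTensor B B i).lTensor A) := by
    have hsq : ∀ z, AlgebraTensorModule.cancelBaseChange C B B A N'
        ((AlgebraTensorModule.lTensor B B i).lTensor A z) =
        i.lTensor A (AlgebraTensorModule.cancelBaseChange C B B A N z) := by
      intro z
      induction z with
      | zero => simp
      | tmul a w =>
        induction w with
        | zero => simp
        | tmul b n => simp
        | add _ _ h₁ h₂ => simp only [tmul_add, map_add, h₁, h₂]
      | add _ _ h₁ h₂ => simp only [map_add, h₁, h₂]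
    refine fun z w hzw ↦ (AlgebraTensorModule.cancelBaseChange C B B A N).injective
      (Module.Flat.lTensor_preserves_injective_linearMap (M := A) i hi ?_)
    rw [← hsq, ← hsq, hzw]
  exact (Module.FaithfullyFlat.lTensor_injective_iff_injective B A _).mp key

theorem etale_invariants (G : Type u) {A B C : Type u} [Group G] [Finite G] [CommRing A]
    [CommRing B] [CommRing C] [MulSemiringAction G A] [Algebra B A] [Algebra C B] [Algebra C A]
    [IsScalarTower C B A] [SMulCommClass G B A] [Algebra.IsInvariant B A G] [IsNoetherianRing C]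
    [Algebra.Etale C A]
    (hBA : Function.Injective (algebraMap B A)) :
    Algebra.Etale B A ∧ Module.Finite B A ∧ Algebra.Etale C B ∧
      (Module.Finite C A → Module.Finite C B) := by
  have : SMulCommClass G C A := ⟨fun g r a ↦ by
    rw [← algebraMap_smul B r a, smul_comm g, algebraMap_smul]⟩
  obtain ⟨s, hs⟩ := exists_sepDatum_of_unramified (G := G) (A := A) C
  obtain ⟨hfin, hproj⟩ := hs.finite_projective (B := B) hBA
  have hft : Algebra.FiniteType C B :=
    ⟨fg_of_fg_of_fg C B A (Algebra.FiniteType.out (R := C) (A := A)) Module.Finite.fg_top hBA⟩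
  have : IsNoetherianRing B := Algebra.FiniteType.isNoetherianRing C B
  have : Algebra.FiniteType B A := inferInstance
  have : Algebra.FinitePresentation B A := Algebra.FinitePresentation.of_finiteType.mp ‹_›
  have : Algebra.FinitePresentation C B := Algebra.FinitePresentation.of_finiteType.mp hft
  have : Algebra.FormallyUnramified B A := Algebra.FormallyUnramified.of_restrictScalars C B A
  have hBAet : Algebra.Etale B A := Algebra.Etale.of_formallyUnramified_of_flat
  have : Module.FaithfullyFlat B A := by
    refine Module.FaithfullyFlat.of_comap_surjective fun P ↦ ?_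
    obtain ⟨Q, -, hQ, hQP⟩ := Ideal.exists_ideal_over_prime_of_isIntegral P.asIdeal
      (⊥ : Ideal A) (by rw [← RingHom.ker_eq_comap_bot, (RingHom.injective_iff_ker_eq_bot _).mp hBA]; exact bot_le)
    exact ⟨⟨Q, hQ⟩, PrimeSpectrum.ext hQP⟩
  have : Module.Flat C B := flat_of_faithfullyFlat_tower C B A
  have : Algebra.FormallyUnramified C B := by
    constructor
    have : Subsingleton (A ⊗[B] Ω[B⁄C]) :=
      (KaehlerDifferential.tensorKaehlerEquivOfFormallyEtale C B A).subsingleton
    exact Module.FaithfullyFlat.lTensor_reflects_triviality B A _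
  refine ⟨hBAet, hfin, Algebra.Etale.of_formallyUnramified_of_flat, fun _ ↦ ?_⟩
  exact Module.Finite.of_injective (IsScalarTower.toAlgHom C B A).toLinearMap hBA

end Groth.Agent.QuotScheme
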