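import Groth.Agent.QuotScheme.Basic
import Mathlib.Topology.Sheaves.SheafCondition.UniqueGluing

/-! # Recognising quotients by finite groups on an affine cover -/

universe u

open CategoryTheory AlgebraicGeometry Limits TopologicalSpace Opposite

namespace Groth.Agent.QuotScheme

variable {X Y : Scheme.{u}} {G : Type u} [Group G] {ρ : G →* Aut X} {p : X ⟶ Y}

lemma res_self (X : Scheme.{u}) {O : X.Opens} (h : O ≤ O) :
    X.presheaf.map (homOfLE h).op = 𝟙 _ := by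
  rw [Subsingleton.elim (homOfLE h) (𝟙 O), op_id, X.presheaf.map_id]

lemma appLE_restrict {X X' : Scheme.{u}} {U : X.Opens} {U' : X'.Opens} (f : X ⟶ X')
    (fU : U.toScheme ⟶ U'.toScheme) (h : fU ≫ U'.ι = U.ι ≫ f) (A : U'.toScheme.Opens)
    (B : U.toScheme.Opens) (e : B ≤ fU ⁻¹ᵁ A) (e' : U.ι ''ᵁ B ≤ f ⁻¹ᵁ (U'.ι ''ᵁ A)) :
    fU.appLE A B e = f.appLE (U'.ι ''ᵁ A) (U.ι ''ᵁ B) e' := by
  have e₁ : A ≤ U'.ι ⁻¹ᵁ (U'.ι ''ᵁ A) := (U'.ι.preimage_image_eq A).ge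
  have e₂ : B ≤ U.ι ⁻¹ᵁ (U.ι ''ᵁ B) := (U.ι.preimage_image_eq B).ge
  have l := Scheme.Hom.appLE_comp_appLE fU U'.ι (U'.ι ''ᵁ A) A B e₁ e
  have r := Scheme.Hom.appLE_comp_appLE U.ι f (U'.ι ''ᵁ A) (U.ι ''ᵁ B) B e' e₂
  have c := appLE_congr_hom h (U'.ι ''ᵁ A) B
    (fun z hz ↦ e₁ (e hz)) (fun z hz ↦ e' (e₂ hz))
  have key := (l.trans c).trans r.symm
  have a₁ : U'.ι.appLE (U'.ι ''ᵁ A) A e₁ = 𝟙 Γ(X', U'.ι ''ᵁ A) :=
    (Scheme.Opens.ι_appLE _ _ _ _).trans (res_self X' _)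
  have a₂ : U.ι.appLE (U.ι ''ᵁ B) B e₂ = 𝟙 Γ(X, U.ι ''ᵁ B) :=
    (Scheme.Opens.ι_appLE _ _ _ _).trans (res_self X _)
  rw [a₁, a₂] at key
  exact (Category.id_comp _).symm.trans (key.trans (Category.comp_id _))

/-- `range_iff` over an open equal to a preimage -/
lemma range_iff_of_eq (hp : SGA1.IsQuot ρ p) (W : Y.Opens) (O : X.Opens) (hO : O = p ⁻¹ᵁ W)
    (e : ∀ g : G, O ≤ (ρ g).hom ⁻¹ᵁ O) (s : Γ(X, O)) :
    s ∈ Set.range (p.appLE W O hO.le).hom ↔ ∀ g : G, ((ρ g).hom.appLE O O (e g)).hom s = s := by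
  subst hO
  rw [← Scheme.Hom.app_eq_appLE]
  exact hp.range_iff W s

theorem restrict (hp : SGA1.IsQuot ρ p) (U : Y.Opens) (ρU : G →* Aut (p ⁻¹ᵁ U).toScheme)
    (hρU : ∀ g : G, (ρU g).hom ≫ (p ⁻¹ᵁ U).ι = (p ⁻¹ᵁ U).ι ≫ (ρ g).hom) :
    SGA1.IsQuot ρU (p ∣_ U) := by
  have := hp.affine
  have hinvU : ∀ g : G, (ρU g).hom ≫ (p ∣_ U) = p ∣_ U := fun g ↦ by
    rw [← cancel_mono U.ι, Category.assoc, morphismRestrict_ι, reassoc_of% (hρU g), hp.inv g]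
  refine ⟨MorphismProperty.of_isPullback (isPullback_morphismRestrict p U).flip hp.affine, hinvU,
    morphismRestrict_app_injective p hp.injective U, fun V s ↦ ?_⟩
  let O := (p ⁻¹ᵁ U).ι ''ᵁ ((p ∣_ U) ⁻¹ᵁ V)
  have hO : O = p ⁻¹ᵁ (U.ι ''ᵁ V) := image_morphismRestrict_preimage p U V
  have e : ∀ g : G, O ≤ (ρ g).hom ⁻¹ᵁ O := fun g ↦ by
    rw [hO]; exact SGA1.preimage_le_of_inv ρ p hp.inv g _
  rw [morphismRestrict_app']
  refine (range_iff_of_eq hp (U.ι ''ᵁ V) O hO e s).trans (forall_congr' fun g ↦ ?_)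
  rw [appLE_restrict (ρ g).hom (ρU g).hom (hρU g) _ _ _ (e g)]
  rfl

/-- invariance of sections, stated through any witnesses of stability -/
def IsInvSec (ρ : G →* Aut X) {O : X.Opens} (s : Γ(X, O)) : Prop :=
  ∀ (g : G) (e : O ≤ (ρ g).hom ⁻¹ᵁ O), ((ρ g).hom.appLE O O e).hom s = s

lemma isInvSec_app (hinv : ∀ g : G, (ρ g).hom ≫ p = p) {W : Y.Opens} (t : Γ(Y, W)) :
    IsInvSec ρ ((p.app W).hom t) := by
  intro g e
  have := Scheme.Hom.appLE_comp_appLE (ρ g).hom p W (p ⁻¹ᵁ W) (p ⁻¹ᵁ W) le_rfl e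
  rw [appLE_congr_hom (hinv g) _ _ _ le_rfl, ← Scheme.Hom.app_eq_appLE] at this
  exact congr($this t)

lemma res_appLE_self (g : G) {O O' : X.Opens} (h : O' ≤ O) (e : O ≤ (ρ g).hom ⁻¹ᵁ O)
    (e' : O' ≤ (ρ g).hom ⁻¹ᵁ O') (s : Γ(X, O)) :
    ((ρ g).hom.appLE O' O' e').hom ((X.presheaf.map (homOfLE h).op).hom s) =
      (X.presheaf.map (homOfLE h).op).hom (((ρ g).hom.appLE O O e).hom s) := by
  rw [← CommRingCat.comp_apply, ← CommRingCat.comp_apply, Scheme.Hom.map_appLE,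
    Scheme.Hom.appLE_map]

lemma res_app {W' W : Y.Opens} (h : W' ≤ W) (t : Γ(Y, W)) :
    (p.app W').hom ((Y.presheaf.map (homOfLE h).op).hom t) =
      (X.presheaf.map (homOfLE (p.preimage_mono h)).op).hom ((p.app W).hom t) :=
  congr($(p.naturality (homOfLE h).op) t)

/-- the localisation step -/
lemma injective_range_basicOpen [Finite G] (hp : IsAffineHom p)
    (hinv : ∀ g : G, (ρ g).hom ≫ p = p) {U : Y.Opens} (hU : IsAffineOpen U)
    (hi : Function.Injective (p.app U).hom)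
    (hr : ∀ s : Γ(X, p ⁻¹ᵁ U), IsInvSec ρ s → s ∈ Set.range (p.app U).hom) (r : Γ(Y, U)) :
    Function.Injective (p.app (Y.basicOpen r)).hom ∧
      ∀ s : Γ(X, p ⁻¹ᵁ Y.basicOpen r), IsInvSec ρ s →
        s ∈ Set.range (p.app (Y.basicOpen r)).hom := by
  cases nonempty_fintype G
  have hV : IsAffineOpen (p ⁻¹ᵁ U) := hU.preimage p
  let D := Y.basicOpen r
  have hle : D ≤ U := Y.basicOpen_le r
  let q := (p.app U).hom r
  let iY : Γ(Y, U) →+* Γ(Y, D) := (Y.presheaf.map (homOfLE hle).op).hom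
  let iX : Γ(X, p ⁻¹ᵁ U) →+* Γ(X, p ⁻¹ᵁ D) :=
    (X.presheaf.map (homOfLE (p.preimage_mono hle)).op).hom
  let : Algebra Γ(Y, U) Γ(Y, D) := iY.toAlgebra
  let : Algebra Γ(X, p ⁻¹ᵁ U) Γ(X, p ⁻¹ᵁ D) := iX.toAlgebra
  have : IsLocalization.Away r Γ(Y, D) := hU.isLocalization_of_eq_basicOpen r (homOfLE hle) rfl
  have : IsLocalization.Away q Γ(X, p ⁻¹ᵁ D) :=
    hV.isLocalization_of_eq_basicOpen q (homOfLE (p.preimage_mono hle)) (Scheme.preimage_basicOpen p r)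
  have hnat : ∀ a, (p.app D).hom (iY a) = iX ((p.app U).hom a) := fun a ↦ res_app hle a
  have hker : ∀ a, iX a = 0 → ∃ m : ℕ, q ^ m * a = 0 := fun a ha ↦ by
    obtain ⟨⟨_, m, rfl⟩, hm⟩ := (IsLocalization.map_eq_zero_iff (Submonoid.powers q)
      Γ(X, p ⁻¹ᵁ D) a).mp ha
    exact ⟨m, hm⟩
  have hsurjX : ∀ s, ∃ (n : ℕ) (a : Γ(X, p ⁻¹ᵁ U)), s * iX (q ^ n) = iX a := fun s ↦ by
    obtain ⟨⟨a, ⟨_, n, rfl⟩⟩, h⟩ := IsLocalization.surj (Submonoid.powers q) s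
    exact ⟨n, a, h⟩
  have hsurjY : ∀ s, ∃ (n : ℕ) (a : Γ(Y, U)), s * iY (r ^ n) = iY a := fun s ↦ by
    obtain ⟨⟨a, ⟨_, n, rfl⟩⟩, h⟩ := IsLocalization.surj (Submonoid.powers r) s
    exact ⟨n, a, h⟩
  have huY : ∀ n : ℕ, IsUnit (iY (r ^ n)) := fun n ↦
    IsLocalization.map_units Γ(Y, D) (⟨r ^ n, n, rfl⟩ : Submonoid.powers r)
  refine ⟨(injective_iff_map_eq_zero _).mpr fun t ht ↦ ?_, fun s hs ↦ ?_⟩
  · obtain ⟨n, a, ha⟩ := hsurjY t
    have h0 : iX ((p.app U).hom a) = 0 := by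
      rw [← hnat, ← ha, map_mul, ht, zero_mul]
    obtain ⟨m, hm⟩ := hker _ h0
    have hm' : r ^ m * a = 0 := hi (by rw [map_mul, map_pow, map_zero]; exact hm)
    have h1 : iY a = 0 := by
      rw [← (huY m).mul_right_eq_zero, ← map_mul, hm', map_zero]
    exact (huY n).mul_left_eq_zero.mp (ha.trans h1)
  · obtain ⟨n, a, ha⟩ := hsurjX s
    have hq : IsInvSec ρ q := isInvSec_app hinv r
    have key : ∀ g : G, ∃ m : ℕ, q ^ m *
        (((ρ g).hom.appLE _ _ (SGA1.preimage_le_of_inv ρ p hinv g U)).hom a - a) = 0 := fun g ↦ by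
      apply hker
      rw [map_sub, sub_eq_zero]
      have h1 := congr_arg ((ρ g).hom.appLE _ _ (SGA1.preimage_le_of_inv ρ p hinv g D)).hom ha
      change _ = iX _
      rw [show iX (((ρ g).hom.appLE _ _ (SGA1.preimage_le_of_inv ρ p hinv g U)).hom a) =
          ((ρ g).hom.appLE _ _ (SGA1.preimage_le_of_inv ρ p hinv g D)).hom (iX a) from
          (res_appLE_self g _ _ _ a).symm, ← h1, map_mul, hs g,
        show ((ρ g).hom.appLE _ _ (SGA1.preimage_le_of_inv ρ p hinv g D)).hom (iX (q ^ n)) =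
          iX (((ρ g).hom.appLE _ _ (SGA1.preimage_le_of_inv ρ p hinv g U)).hom (q ^ n)) from
          res_appLE_self g _ _ _ _, map_pow, hq g, ha]
    choose m hm using key
    let M := Finset.univ.sup m
    have hb : IsInvSec ρ (q ^ M * a) := fun g e ↦ by
      rw [map_mul, map_pow, hq g, ← sub_eq_zero, ← mul_sub, ← Nat.sub_add_cancel
        (show m g ≤ M from Finset.le_sup (f := m) (Finset.mem_univ g)), pow_add, mul_assoc, hm g, mul_zero]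
    obtain ⟨c, hc⟩ := hr _ hb
    obtain ⟨u, hu⟩ := huY (M + n)
    refine ⟨iY c * ↑u⁻¹, ?_⟩
    have h2 : (p.app D).hom (iY (r ^ (M + n))) * s = (p.app D).hom (iY c) := by
      rw [hnat, hnat, hc, map_pow (p.app U).hom, pow_add, map_mul, map_mul, ← ha]
      ring
    rw [map_mul, ← h2, mul_comm, ← mul_assoc, ← map_mul, ← hu, Units.inv_mul, map_one, one_mul]

/-- A quotient can be recognised on an affine cover of the target. -/
theorem of_affine_cover [Finite G] (hp : IsAffineHom p) (hinv : ∀ g : G, (ρ g).hom ≫ p = p)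
    (H : ∀ y : Y, ∃ U : Y.Opens, IsAffineOpen U ∧ y ∈ U ∧ Function.Injective (p.app U).hom ∧
      ∀ s : Γ(X, p ⁻¹ᵁ U), IsInvSec ρ s → s ∈ Set.range (p.app U).hom) :
    SGA1.IsQuot ρ p := by
  -- good opens form a basis
  have basis : ∀ (W : Y.Opens) (y : Y), y ∈ W → ∃ D : Y.Opens, y ∈ D ∧ D ≤ W ∧
      Function.Injective (p.app D).hom ∧
      ∀ s : Γ(X, p ⁻¹ᵁ D), IsInvSec ρ s → s ∈ Set.range (p.app D).hom := by
    intro W y hy
    obtain ⟨U, hU, hyU, hi, hr⟩ := H y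
    obtain ⟨r, hrW, hyr⟩ := hU.exists_basicOpen_le (V := W) ⟨y, hy⟩ hyU
    exact ⟨_, hyr, hrW, injective_range_basicOpen hp hinv hU hi hr r⟩
  have hinj : ∀ W : Y.Opens, Function.Injective (p.app W).hom := fun W ↦ by
    refine fun a b hab ↦ ?_
    choose D hyD hDW hi _ using fun y : W ↦ basis W y y.2
    refine TopCat.Sheaf.eq_of_locally_eq' Y.sheaf D W (fun y ↦ homOfLE (hDW y))
      (fun y hy ↦ Opens.mem_iSup.mpr ⟨⟨y, hy⟩, hyD _⟩) a b fun y ↦ hi y ?_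
    exact (res_app (hDW y) a).trans ((congr_arg _ hab).trans (res_app (hDW y) b).symm)
  refine ⟨hp, hinv, hinj, fun W s ↦ ⟨?_, fun hs ↦ ?_⟩⟩
  · rintro ⟨t, rfl⟩ g
    exact isInvSec_app hinv t g _
  · choose D hyD hDW _ hr using fun y : W ↦ basis W y y.2
    have hsD : ∀ y, IsInvSec ρ ((X.presheaf.map (homOfLE (p.preimage_mono (hDW y))).op).hom s) :=
      fun y g e ↦ by rw [res_appLE_self g _ (SGA1.preimage_le_of_inv ρ p hinv g W) e, hs g]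
    choose t ht using fun y ↦ hr y _ (hsD y)
    have hc : TopCat.Presheaf.IsCompatible Y.presheaf D t := by
      intro i j
      apply hinj (D i ⊓ D j)
      refine (res_app inf_le_left (t i)).trans (Eq.trans ?_ (res_app inf_le_right (t j)).symm)
      rw [ht, ht, ← CommRingCat.comp_apply, ← CommRingCat.comp_apply, ← Functor.map_comp,
        ← Functor.map_comp]
      rfl
    obtain ⟨T, hT, -⟩ := TopCat.Sheaf.existsUnique_gluing' Y.sheaf D W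
      (fun y ↦ homOfLE (hDW y)) (fun y hy ↦ Opens.mem_iSup.mpr ⟨⟨y, hy⟩, hyD _⟩) t hc
    refine ⟨T, TopCat.Sheaf.eq_of_locally_eq' X.sheaf (fun y ↦ p ⁻¹ᵁ D y) (p ⁻¹ᵁ W)
      (fun y ↦ homOfLE (p.preimage_mono (hDW y)))
      (fun x hx ↦ Opens.mem_iSup.mpr ⟨⟨p x, hx⟩, hyD _⟩) _ _ fun y ↦ ?_⟩
    exact (res_app (hDW y) T).symm.trans ((congr_arg _ (hT y)).trans (ht y))

end Groth.Agent.QuotScheme
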