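import Groth.Agent.QuotScheme.Basic
import Mathlib.AlgebraicGeometry.PullbackCarrier
import Mathlib.CategoryTheory.EffectiveEpi.Basic

/-! # A submersive morphism with the equalizer property on sections is an effective epimorphism -/

universe u

open CategoryTheory AlgebraicGeometry Limits TopologicalSpace

namespace Groth.Agent.QuotScheme

lemma exists_desc_of_local {X Y Z : Scheme.{u}} (f : X ⟶ Y)
    (hepi : ∀ O : Y.Opens, Epi (f ∣_ O)) (h : X ⟶ Z)
    (hloc : ∀ y : Y, ∃ (U : Y.Opens) (a : U.toScheme ⟶ Z),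
      y ∈ U ∧ (f ∣_ U) ≫ a = (f ⁻¹ᵁ U).ι ≫ h) : ∃ a : Y ⟶ Z, f ≫ a = h := by
  choose U a hyU ha using hloc
  let 𝒰 : Y.OpenCover := {
    I₀ := Y, X i := (U i), f i := (U i).ι,
    mem₀ := by
      rw [Scheme.presieve₀_mem_precoverage_iff]
      exact ⟨fun y ↦ ⟨y, by simpa using hyU y⟩, inferInstance⟩ }
  have compat : ∀ i j, pullback.fst (U i).ι (U j).ι ≫ a i = pullback.snd _ _ ≫ a j := by
    intro i j
    rw [← cancel_epi (isPullback_opens_inf (U i) (U j)).isoPullback.hom]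
    simp only [IsPullback.isoPullback_hom_fst_assoc, IsPullback.isoPullback_hom_snd_assoc]
    have := hepi (U i ⊓ U j)
    rw [← cancel_epi (f ∣_ (U i ⊓ U j)), reassoc_of% (morphismRestrict_homOfLE' f inf_le_left),
      reassoc_of% (morphismRestrict_homOfLE' f inf_le_right), ha, ha,
      Scheme.homOfLE_ι_assoc, Scheme.homOfLE_ι_assoc]
  refine ⟨𝒰.glueMorphisms a compat, Scheme.hom_ext_of_forall _ _ fun x ↦
    ⟨f ⁻¹ᵁ U (f x), hyU (f x), ?_⟩⟩
  rw [← morphismRestrict_ι_assoc]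
  erw [𝒰.ι_glueMorphisms a compat (f x)]
  exact ha _

theorem effectiveEpi_of_isQuotientMap {S' S : Scheme.{u}} (g : S' ⟶ S)
    (hq : Topology.IsQuotientMap g.base) (hinj : ∀ U : S.Opens, Function.Injective (g.app U).hom)
    (heq : ∀ (U : S.Opens) (s' : Γ(S', g ⁻¹ᵁ U)),
      (SGA1.overlapFstApp g U).hom s' = (SGA1.overlapSndApp g U).hom s' →
        s' ∈ Set.range (g.app U).hom) : EffectiveEpi g := by
  have hepi : ∀ O : S.Opens, Epi (g ∣_ O) := fun O ↦
    epi_of_surjective_of_injective _ (morphismRestrict_surjective g hq.surjective O)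
      (morphismRestrict_app_injective g hinj O)
  have hg : Epi g := epi_of_surjective_of_injective g hq.surjective hinj
  have key : ∀ {W : Scheme.{u}} (e : S' ⟶ W),
      pullback.fst g g ≫ e = pullback.snd g g ≫ e → ∃ a : S ⟶ W, g ≫ a = e := by
    intro W e he
    refine exists_desc_of_local g hepi e fun y ↦ ?_
    obtain ⟨x, rfl⟩ := hq.surjective y
    obtain ⟨V, hV, hxV, -⟩ := exists_affine_nbhd (Y := W) (O := ⊤) (y := e x) trivial
    have hsat : g.base ⁻¹' (g.base '' (e ⁻¹ᵁ V : Set S')) = (e ⁻¹ᵁ V : Set S') := by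
      refine Set.Subset.antisymm ?_ (Set.subset_preimage_image _ _)
      rintro t ⟨s, hs, hst⟩
      obtain ⟨z, hz₁, hz₂⟩ := Scheme.Pullback.exists_preimage_pullback (f := g) (g := g) s t hst
      change e t ∈ V
      rw [← hz₂, ← Scheme.Hom.comp_apply, ← he, Scheme.Hom.comp_apply, hz₁]
      exact hs
    let O : S.Opens := ⟨g.base '' (e ⁻¹ᵁ V : Set S'),
      hq.isOpen_preimage.mp (by rw [hsat]; exact (e ⁻¹ᵁ V).isOpen)⟩
    obtain ⟨U, hU, hxU, hUO⟩ := exists_affine_nbhd (Y := S) (O := O) (y := g x) ⟨x, hxV, rfl⟩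
    have hUV : g ⁻¹ᵁ U ≤ e ⁻¹ᵁ V := fun t ht ↦ hsat.le (hUO ht)
    have hmem : ∀ r, (e.appLE V (g ⁻¹ᵁ U) hUV).hom r ∈ (g.app U).hom.range := fun r ↦ by
      refine heq U _ ?_
      rw [← CommRingCat.comp_apply, ← CommRingCat.comp_apply, SGA1.overlapFstApp,
        SGA1.overlapSndApp, Scheme.Hom.app_eq_appLE, Scheme.Hom.appLE_comp_appLE,
        Scheme.Hom.appLE_comp_appLE]
      exact congr($(appLE_congr_hom he V _ _ _) r)
    let e' := RingEquiv.ofBijective (g.app U).hom.rangeRestrict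
      ⟨fun a b hab ↦ hinj U (congr_arg Subtype.val hab), RingHom.rangeRestrict_surjective _⟩
    let φ : Γ(W, V) ⟶ Γ(S, U) := CommRingCat.ofHom
      (e'.symm.toRingHom.comp ((e.appLE V (g ⁻¹ᵁ U) hUV).hom.codRestrict _ hmem))
    have hφ : φ ≫ g.app U = e.appLE V (g ⁻¹ᵁ U) hUV := by
      ext r
      exact congr_arg Subtype.val (e'.apply_symm_apply _)
    refine ⟨U, U.toSpecΓ ≫ Spec.map φ ≫ hV.fromSpec, hxU, ?_⟩
    rw [← Scheme.Hom.resLE_eq_morphismRestrict, ← Scheme.Opens.toSpecΓ_SpecMap_appLE_assoc,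
      ← Spec.map_comp_assoc, ← Scheme.Hom.app_eq_appLE, hφ,
      Scheme.Opens.toSpecΓ_SpecMap_appLE_assoc, ← hV.isoSpec_hom, hV.isoSpec_hom_fromSpec,
      Scheme.Hom.resLE_comp_ι]
  exact ⟨⟨{
    desc := fun e he ↦ (key e (he _ _ pullback.condition)).choose
    fac := fun e he ↦ (key e (he _ _ pullback.condition)).choose_spec
    uniq := fun e he m hm ↦ by
      rw [← cancel_epi g, hm]
      exact (key e (he _ _ pullback.condition)).choose_spec.symm }⟩⟩

end Groth.Agent.QuotScheme
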