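import Groth.Agent.QuotScheme.Separable
import Mathlib.Algebra.Polynomial.Roots
import Mathlib.RingTheory.Finiteness.Projective
import Mathlib.RingTheory.FinitePresentation
import Mathlib.RingTheory.Finiteness.ModuleFinitePresentation

/-! # Free actions of finite groups on rings; transitivity on points over the invariants -/

universe u

open scoped TensorProduct

namespace Groth.Agent.QuotScheme

variable {G A : Type*} [Group G] [CommRing A] [MulSemiringAction G A]

lemma exists_free_family [Finite G] (hfree : ∀ g : G, g ≠ 1 →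
    Ideal.span (Set.range fun a : A ↦ g • a - a) = ⊤) :
    ∃ (n : ℕ) (x y : Fin n → A), ∑ i, x i * y i = 1 ∧ ∀ g : G, g ≠ 1 → ∑ i, x i * (g • y i) = 0 := by
  classical
  cases nonempty_fintype G
  suffices h : ∀ s : Finset G, (1 : G) ∉ s → ∃ (n : ℕ) (x y : Fin n → A),
      ∑ i, x i * y i = 1 ∧ ∀ g ∈ s, ∑ i, x i * (g • y i) = 0 by
    obtain ⟨n, x, y, h1, h2⟩ := h (Finset.univ.erase 1) (Finset.notMem_erase _ _)
    exact ⟨n, x, y, h1, fun g hg ↦ h2 g (Finset.mem_erase.mpr ⟨hg, Finset.mem_univ _⟩)⟩
  intro s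
  induction s using Finset.induction with
  | empty => exact fun _ ↦ ⟨1, 1, 1, by simp, by simp⟩
  | insert g s hgs ih =>
    intro h1
    rw [Finset.mem_insert, not_or] at h1
    obtain ⟨n, x, y, hx, hs⟩ := ih h1.2
    have hmem : (1 : A) ∈ Ideal.span (Set.range fun a : A ↦ g • a - a) := by
      rw [hfree g (Ne.symm h1.1)]; trivial
    obtain ⟨c, hc⟩ := (Finsupp.mem_ideal_span_range_iff_exists_finsupp).mp hmem
    obtain ⟨m, e⟩ : ∃ m, Nonempty (Fin m ≃ c.support) :=
      ⟨_, ⟨(Finset.equivFin c.support).symm⟩⟩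
    obtain ⟨e⟩ := e
    have hc' : ∑ k : Fin m, c (e k) * (g • (e k : A) - e k) = 1 := by
      rw [Equiv.sum_comp e fun a : c.support ↦ c a * (g • (a : A) - a),
        Finset.sum_coe_sort c.support fun a ↦ c a * (g • a - a)]
      exact hc
    -- a family separating `1` from `g`
    let x' : Fin (m + 1) → A := Fin.cons (∑ k : Fin m, c (e k) * (g • (e k : A))) fun k ↦ -c (e k)
    let y' : Fin (m + 1) → A := Fin.cons 1 fun k ↦ (e k : A)
    have hx' : ∑ i, x' i * y' i = 1 := by
      rw [← hc', Fin.sum_univ_succ]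
      simp [x', y', sub_eq_add_neg]
      rw [← Finset.sum_neg_distrib, ← Finset.sum_add_distrib]
      exact Finset.sum_congr rfl fun k _ ↦ by ring
    have hg' : ∑ i, x' i * (g • y' i) = 0 := by
      rw [Fin.sum_univ_succ]
      simp [x', y', Finset.sum_neg_distrib]
    refine ⟨n * (m + 1), fun i ↦ x (finProdFinEquiv.symm i).1 * x' (finProdFinEquiv.symm i).2,
      fun i ↦ y (finProdFinEquiv.symm i).1 * y' (finProdFinEquiv.symm i).2, ?_, fun h hh ↦ ?_⟩
    · rw [Equiv.sum_comp finProdFinEquiv.symm fun i : Fin n × Fin (m + 1) ↦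
        x i.1 * x' i.2 * (y i.1 * y' i.2), ← one_mul (1 : A)]
      nth_rw 1 [← hx]
      rw [← hx', Finset.sum_mul_sum, Fintype.sum_prod_type]
      exact Finset.sum_congr rfl fun i _ ↦ Finset.sum_congr rfl fun j _ ↦ by ring
    · rw [Equiv.sum_comp finProdFinEquiv.symm fun i : Fin n × Fin (m + 1) ↦
        x i.1 * x' i.2 * (h • (y i.1 * y' i.2))]
      have : (∑ i, x i * (h • y i)) * ∑ j, x' j * (h • y' j) = 0 := by
        rcases Finset.mem_insert.mp hh with rfl | hh
        · rw [hg', mul_zero]
        · rw [hs h hh, zero_mul]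
      rw [← this, Finset.sum_mul_sum, Fintype.sum_prod_type]
      exact Finset.sum_congr rfl fun i _ ↦ Finset.sum_congr rfl fun j _ ↦ by
        rw [smul_mul']; ring

variable {B : Type*} [CommRing B] [Algebra B A] [SMulCommClass G B A] [Algebra.IsInvariant B A G]

/-- a free action: `A` is finite étale over the invariants -/
theorem etale_of_free [Finite G] (hfree : ∀ g : G, g ≠ 1 →
    Ideal.span (Set.range fun a : A ↦ g • a - a) = ⊤)
    (hBA : Function.Injective (algebraMap B A)) :
    Module.Finite B A ∧ Algebra.FinitePresentation B A ∧ Module.Flat B A ∧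
      Algebra.FormallyUnramified B A := by
  classical
  cases nonempty_fintype G
  obtain ⟨n, x, y, h1, h2⟩ := exists_free_family hfree
  have hδ : ∀ l k : G, ∑ i, (l • x i) * (k • y i) = if l = k then 1 else 0 := fun l k ↦ by
    rw [show ∑ i, (l • x i) * (k • y i) = l • ∑ i, x i * ((l⁻¹ * k) • y i) by
      simp [Finset.smul_sum, smul_mul', smul_smul]]
    split_ifs with h
    · subst h; simp [h1]
    · rw [h2 _ (by rwa [ne_eq, inv_mul_eq_one]), smul_zero]
  have hd : SepDatum G A x y := ⟨h1, fun g a ↦ by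
    rcases eq_or_ne g 1 with rfl | hg
    · simp
    · rw [h2 g hg, zero_mul]⟩
  obtain ⟨hfin, hproj⟩ := hd.finite_projective hBA
  have hfp : Module.FinitePresentation B A := Module.finitePresentation_of_projective B A
  refine ⟨hfin, inferInstance, inferInstance, ?_⟩
  let Φ : A ⊗[B] A →ₐ[B] (G → A) := Algebra.TensorProduct.lift
    (AlgHom.pi fun _ ↦ AlgHom.id B A)
    (AlgHom.pi fun g ↦ { MulSemiringAction.toRingHom G A g with commutes' := fun r ↦ smul_algebraMap g r })
    fun _ _ ↦ .all _ _
  have hΦ : ∀ a b g, Φ (a ⊗ₜ b) g = a * (g • b) := fun a b g ↦ rfl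
  have hleft : ∀ z, ∑ g : G, ∑ i, (Φ z g * (g • x i)) ⊗ₜ[B] y i = z := by
    intro z
    induction z with
    | zero => simp
    | add z w hz hw =>
      simp only [map_add, Pi.add_apply, add_mul, TensorProduct.add_tmul, Finset.sum_add_distrib, hz,
        hw]
    | tmul a b =>
      have hinv : ∀ i, ∃ r : B, algebraMap B A r = ∑ g : G, g • (b * x i) := fun i ↦
        Algebra.IsInvariant.isInvariant (A := B) (G := G) _ fun h ↦ by
          rw [Finset.smul_sum]
          exact Fintype.sum_equiv (Equiv.mulLeft h) _ _ fun g ↦ by simp [smul_smul]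
      choose r hr using hinv
      have hb : ∑ i, r i • y i = b := by
        simp only [Algebra.smul_def, hr, Finset.sum_mul, smul_mul']
        rw [Finset.sum_comm]
        calc ∑ g : G, ∑ i, (g • b) * (g • x i) * y i
            = ∑ g : G, (g • b) * ∑ i, (g • x i) * ((1 : G) • y i) := by
              simp only [Finset.mul_sum, one_smul, mul_assoc]
          _ = ∑ g : G, (g • b) * if g = 1 then 1 else 0 :=
              Finset.sum_congr rfl fun g _ ↦ by rw [hδ g 1]
          _ = b := by simp
      conv_rhs => rw [← hb, TensorProduct.tmul_sum]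
      rw [Finset.sum_comm]
      refine Finset.sum_congr rfl fun i _ ↦ ?_
      rw [TensorProduct.tmul_smul, TensorProduct.smul_tmul', Algebra.smul_def, hr, Finset.sum_mul,
        TensorProduct.sum_tmul]
      exact Finset.sum_congr rfl fun g _ ↦ by rw [hΦ, smul_mul']; congr 1; ring
  have hinj : Function.Injective Φ := fun z w h ↦ by rw [← hleft z, ← hleft w, h]
  have : Algebra.FiniteType B A := inferInstance
  refine Algebra.FormallyUnramified.iff_exists_tensorProduct.mpr
    ⟨∑ i, x i ⊗ₜ[B] y i, fun a ↦ hinj ?_, ?_⟩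
  · rw [map_zero, map_mul]
    funext g
    have : Φ (∑ i, x i ⊗ₜ[B] y i) g = if (1 : G) = g then 1 else 0 := by
      rw [map_sum, Finset.sum_apply, ← hδ 1 g]
      simp [hΦ]
    rw [Pi.mul_apply, this, map_sub, Pi.sub_apply, hΦ, hΦ, Pi.zero_apply]
    split_ifs with h
    · subst h; simp
    · simp
  · simp [map_sum, h1]

omit [SMulCommClass G B A] in
/-- two homomorphisms to a domain agreeing on the invariants are conjugate -/
theorem exists_smul_eq_of_algebraMap_eq [Finite G] {K : Type*} [CommRing K] [IsDomain K]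
    (φ ψ : A →+* K) (h : φ.comp (algebraMap B A) = ψ.comp (algebraMap B A)) :
    ∃ g : G, ∀ a, φ (g • a) = ψ a := by
  classical
  cases nonempty_fintype G
  by_contra hne
  push Not at hne
  choose a ha using hne
  let n := Fintype.card G
  let e : G ≃ Fin n := Fintype.equivFin G
  let P : Polynomial A := ∑ g : G, Polynomial.monomial (e g : ℕ) (a g)
  have hcoef : ∀ g : G, P.coeff (e g : ℕ) = a g := fun g ↦ by
    simp [P, Polynomial.finsetSum_coeff, Polynomial.coeff_monomial, Fin.val_inj]
  -- the characteristic polynomial of `P` over `A[T]`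
  let Q : Polynomial (Polynomial A) :=
    ∏ g : G, (Polynomial.X - Polynomial.C (P.map (MulSemiringAction.toRingHom G A g)))
  have hQ : Q.eval P = 0 := by
    rw [Polynomial.eval_prod]
    refine Finset.prod_eq_zero (Finset.mem_univ 1) ?_
    ext; simp
  have hfix : ∀ (g : G) (i j : ℕ), g • (Q.coeff i).coeff j = (Q.coeff i).coeff j := fun g i j ↦ by
    have : Q.map (Polynomial.mapRingHom (MulSemiringAction.toRingHom G A g)) = Q := by
      simp only [Q, Polynomial.map_prod, Polynomial.map_sub, Polynomial.map_X, Polynomial.map_C,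
        Polynomial.coe_mapRingHom, Polynomial.map_map]
      refine Fintype.prod_equiv (Equiv.mulLeft g) _ _ fun h ↦ ?_
      congr 3
      ext a
      simp [smul_smul]
    conv_rhs => rw [← this]
    simp
  have hcomp : Q.map (Polynomial.mapRingHom φ) = Q.map (Polynomial.mapRingHom ψ) := by
    refine Polynomial.ext fun i ↦ Polynomial.ext fun j ↦ ?_
    obtain ⟨b, hb⟩ := Algebra.IsInvariant.isInvariant (A := B) (G := G) ((Q.coeff i).coeff j)
      fun g ↦ hfix g i j
    simp only [Polynomial.coeff_map, Polynomial.coe_mapRingHom, ← hb]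
    exact congr($h b)
  have h0 : (Q.map (Polynomial.mapRingHom ψ)).eval (P.map ψ) = 0 := by
    rw [← Polynomial.coe_mapRingHom ψ, Polynomial.eval_map, Polynomial.eval₂_hom, hQ, map_zero]
  rw [← hcomp] at h0
  simp only [Q, Polynomial.map_prod, Polynomial.map_sub, Polynomial.map_X, Polynomial.map_C,
    Polynomial.eval_prod, Polynomial.eval_sub, Polynomial.eval_X, Polynomial.eval_C,
    Finset.prod_eq_zero_iff, Finset.mem_univ, true_and, sub_eq_zero] at h0
  obtain ⟨g, hg⟩ := h0
  refine ha g ?_
  have := congr_arg (fun q : Polynomial K ↦ q.coeff (e g : ℕ)) hg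
  simp only [Polynomial.coe_mapRingHom, Polynomial.coeff_map, hcoef] at this
  exact this.symm

end Groth.Agent.QuotScheme
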