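import Groth.Agent.QuotScheme.Props
import Mathlib.AlgebraicGeometry.Morphisms.FinitePresentation
import Mathlib.AlgebraicGeometry.Morphisms.Flat
import Mathlib.AlgebraicGeometry.Morphisms.Proper
import Mathlib.RingTheory.Finiteness.ModuleFinitePresentation
import Mathlib.RingTheory.FinitePresentation

/-! # Quotients by finite groups of invertible order: flatness, finite presentation, properness -/

set_option autoImplicit false
universe u

open CategoryTheory AlgebraicGeometry Limits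

namespace Groth.Agent.QuotScheme

/-- A direct summand subalgebra of a finitely presented algebra, over which it is integral, is finitely
presented. -/
theorem finitePresentation_of_retraction {R B A : Type u} [CommRing R] [CommRing B] [CommRing A] [Algebra R B]
    [Algebra B A] [Algebra R A] [IsScalarTower R B A] [Algebra.IsIntegral B A] [Algebra.FinitePresentation R A]
    (r : A →ₗ[B] B) (hr : ∀ b, r (algebraMap B A b) = b) : Algebra.FinitePresentation R B := by
  classical
  obtain ⟨s, hs⟩ := (inferInstance : Algebra.FiniteType R A).out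
  choose q hqm hq using fun x : A => Algebra.IsIntegral.isIntegral (R := B) x
  let C : Finset B := s.biUnion fun x => (q x).coeffs
  let P := MvPolynomial (C : Set B) R
  let φ : P →ₐ[R] B := MvPolynomial.aeval Subtype.val
  letI : Algebra P B := φ.toRingHom.toAlgebra
  letI : Algebra P A := ((algebraMap B A).comp φ.toRingHom).toAlgebra
  haveI : IsScalarTower P B A := IsScalarTower.of_algebraMap_eq fun _ => rfl
  haveI : IsScalarTower R P B := IsScalarTower.of_algebraMap_eq fun a => (φ.commutes a).symm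
  haveI : IsScalarTower R P A := IsScalarTower.of_algebraMap_eq fun a => by
    show algebraMap R A a = algebraMap B A (φ (algebraMap R P a))
    rw [φ.commutes, ← IsScalarTower.algebraMap_apply]
  have hint : ∀ x ∈ s, IsIntegral P x := fun x hx => by
    rcases subsingleton_or_nontrivial B with hB | hB
    · haveI : Subsingleton A := subsingleton_of_zero_eq_one (by
        rw [← map_one (algebraMap B A), ← map_zero (algebraMap B A), Subsingleton.elim (0 : B) 1])
      rw [Subsingleton.elim x 0]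
      exact isIntegral_zero
    have hl : q x ∈ Polynomial.lifts φ.toRingHom := (Polynomial.lifts_iff_coeff_lifts _).2 fun n => by
      by_cases h : (q x).coeff n = 0
      · exact ⟨0, by rw [map_zero, h]⟩
      · exact ⟨MvPolynomial.X ⟨(q x).coeff n, Finset.mem_biUnion.2 ⟨x, hx, Polynomial.coeff_mem_coeffs h⟩⟩,
          MvPolynomial.aeval_X _ _⟩
    obtain ⟨Q, hQ, -, hQm⟩ := Polynomial.lifts_and_degree_eq_and_monic hl (hqm x)
    refine ⟨Q, hQm, ?_⟩
    rw [IsScalarTower.algebraMap_eq P B A, ← Polynomial.eval₂_map,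
      show Q.map (algebraMap P B) = q x from hQ]
    exact hq x
  haveI : Algebra.IsIntegral P A := ⟨fun a => by
    have h : Algebra.adjoin R (s : Set A) ≤ (integralClosure P A).restrictScalars R :=
      Algebra.adjoin_le fun x hx => hint x hx
    exact h (hs.symm.le (Algebra.mem_top (x := a)))⟩
  haveI : Algebra.FiniteType P A := Algebra.FiniteType.of_restrictScalars_finiteType R P A
  haveI : Module.Finite P A := Algebra.IsIntegral.finite
  haveI : Algebra.FinitePresentation P A := Algebra.FinitePresentation.of_restrict_scalars_finitePresentation R P A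
  haveI : Module.FinitePresentation P A := Module.FinitePresentation.of_finite_of_finitePresentation P A
  let rP : A →ₗ[P] B := r.restrictScalars P
  have hsurj : Function.Surjective rP := fun b => ⟨_, hr b⟩
  have hker : LinearMap.ker rP = LinearMap.range (LinearMap.id - (IsScalarTower.toAlgHom P B A).toLinearMap ∘ₗ rP) := by
    refine le_antisymm ?_ ?_
    · intro a ha
      refine ⟨a, ?_⟩
      show a - algebraMap B A (r a) = a
      rw [show r a = 0 from ha, map_zero, sub_zero]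
    · intro x hx
      obtain ⟨a, rfl⟩ := hx
      show r (a - algebraMap B A (r a)) = 0
      rw [map_sub, hr, sub_self]
  haveI : Module.FinitePresentation P B := Module.finitePresentation_of_surjective rP hsurj (by
    rw [hker, LinearMap.range_eq_map]
    exact (Module.Finite.fg_top (R := P) (M := A)).map _)
  haveI : Algebra.FinitePresentation P B := inferInstance
  exact Algebra.FinitePresentation.trans R P B

variable {X Y Z : Scheme.{u}} {G : Type u} [Group G] [Finite G] {ρ : G →* Aut X} {p : X ⟶ Y}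

/-- averaging -/
theorem exists_retraction (hp : SGA1.IsQuot ρ p) (V : Y.Opens) (hu : IsUnit ((Nat.card G : ℕ) : Γ(Y, V))) :
    letI := sectionsAlgebra p V
    ∃ r : Γ(X, p ⁻¹ᵁ V) →ₗ[Γ(Y, V)] Γ(Y, V), ∀ a, r (algebraMap Γ(Y, V) Γ(X, p ⁻¹ᵁ V) a) = a := by
  letI := sectionsAlgebra p V
  letI := sectionsAction hp.inv V
  haveI := Fintype.ofFinite G
  haveI := smulCommClass_sections hp V
  have hfix : ∀ x : Γ(X, p ⁻¹ᵁ V), ∃ t : Γ(Y, V), algebraMap Γ(Y, V) Γ(X, p ⁻¹ᵁ V) t = ∑ g : G, g • x := fun x => by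
    obtain ⟨t, ht⟩ := (fixed_iff_mem_range hp V (∑ g : G, g • x)).2 fun h => by
      show h • (∑ g : G, g • x) = ∑ g : G, g • x
      rw [Finset.smul_sum]
      simp only [← mul_smul]
      exact Fintype.sum_equiv (Equiv.mulLeft h) _ _ fun g => rfl
    exact ⟨t, ht⟩
  choose t ht using hfix
  have hinj : Function.Injective (algebraMap Γ(Y, V) Γ(X, p ⁻¹ᵁ V)) := hp.injective V
  obtain ⟨v, hv⟩ := hu.exists_left_inv
  let T : Γ(X, p ⁻¹ᵁ V) →ₗ[Γ(Y, V)] Γ(Y, V) :=
    { toFun := t
      map_add' := fun x y => hinj (by rw [map_add, ht, ht, ht, ← Finset.sum_add_distrib]; simp only [smul_add])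
      map_smul' := fun c x => hinj (by
        rw [RingHom.id_apply, smul_eq_mul, map_mul, ht, ht, Finset.mul_sum]
        refine Finset.sum_congr rfl fun g _ => ?_
        rw [smul_comm, Algebra.smul_def]) }
  refine ⟨v • T, fun a => ?_⟩
  show v * t (algebraMap Γ(Y, V) Γ(X, p ⁻¹ᵁ V) a) = a
  have : t (algebraMap Γ(Y, V) Γ(X, p ⁻¹ᵁ V) a) = (Nat.card G : ℕ) * a := hinj (by
    rw [ht, map_mul, map_natCast, Finset.sum_congr rfl (fun g _ => show g • algebraMap Γ(Y, V) Γ(X, p ⁻¹ᵁ V) a = algebraMap Γ(Y, V) Γ(X, p ⁻¹ᵁ V) a from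
        (fixed_iff_mem_range hp V _).1 ⟨a, rfl⟩ g),
      Finset.sum_const, Finset.card_univ, Nat.card_eq_fintype_card, nsmul_eq_mul])
  rw [this, ← mul_assoc, hv, one_mul]

theorem isOpenMap (hp : SGA1.IsQuot ρ p) : IsOpenMap p.base := by
  intro O hO
  rw [← (isQuotientMap hp).isOpen_preimage]
  have : p.base ⁻¹' (p.base '' O) = ⋃ g : G, (ρ g).hom.base ⁻¹' O := by
    ext x
    simp only [Set.mem_preimage, Set.mem_image, Set.mem_iUnion]
    constructor
    · rintro ⟨x', hx', he⟩
      obtain ⟨g, hg⟩ := (orbit_iff hp x x').1 he.symm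
      exact ⟨g, hg ▸ hx'⟩
    · rintro ⟨g, hg⟩
      exact ⟨_, hg, base_rho hp.inv x g⟩
  rw [this]
  exact isOpen_iUnion fun g => hO.preimage (ρ g).hom.continuous

variable {f : X ⟶ Z} {q : Y ⟶ Z}

theorem isUnit_natCast_sections (q : Y ⟶ Z) (hu : IsUnit ((Nat.card G : ℕ) : Γ(Z, ⊤))) (V : Y.Opens) :
    IsUnit ((Nat.card G : ℕ) : Γ(Y, V)) := by
  have h := hu.map (q.appLE ⊤ V le_top).hom
  rwa [map_natCast] at h

theorem flat_of_isQuot (hp : SGA1.IsQuot ρ p) (hq : p ≫ q = f) (hu : IsUnit ((Nat.card G : ℕ) : Γ(Z, ⊤))) [Flat f] :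
    Flat q := by
  have := hp.affine
  rw [HasRingHomProperty.iff_appLE (P := @Flat)]
  intro U V e
  have hV : IsAffineOpen (p ⁻¹ᵁ V.1) := V.2.preimage p
  have e' : p ⁻¹ᵁ V.1 ≤ f ⁻¹ᵁ U.1 := by
    rw [← hq, Scheme.Hom.comp_preimage]
    exact p.preimage_mono e
  have hcomp : q.appLE U.1 V.1 e ≫ p.app V.1 = f.appLE U.1 (p ⁻¹ᵁ V.1) e' := by
    subst hq
    rw [Scheme.Hom.app_eq_appLE, Scheme.Hom.appLE_comp_appLE]
  have h1 : (f.appLE U.1 (p ⁻¹ᵁ V.1) e').hom.Flat := HasRingHomProperty.appLE @Flat f inferInstance U ⟨_, hV⟩ e'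
  rw [← hcomp, CommRingCat.hom_comp] at h1
  obtain ⟨r, hr⟩ := exists_retraction hp V.1 (isUnit_natCast_sections q hu V.1)
  letI := sectionsAlgebra p V.1
  letI : Algebra Γ(Z, U.1) Γ(Y, V.1) := (q.appLE U.1 V.1 e).hom.toAlgebra
  letI : Algebra Γ(Z, U.1) Γ(X, p ⁻¹ᵁ V.1) := ((p.app V.1).hom.comp (q.appLE U.1 V.1 e).hom).toAlgebra
  haveI : IsScalarTower Γ(Z, U.1) Γ(Y, V.1) Γ(X, p ⁻¹ᵁ V.1) := IsScalarTower.of_algebraMap_eq fun _ => rfl
  haveI : Module.Flat Γ(Z, U.1) Γ(X, p ⁻¹ᵁ V.1) := h1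
  exact Module.Flat.of_retract (IsScalarTower.toAlgHom Γ(Z, U.1) Γ(Y, V.1) Γ(X, p ⁻¹ᵁ V.1)).toLinearMap
    (r.restrictScalars Γ(Z, U.1)) (LinearMap.ext hr)

theorem locallyOfFinitePresentation_of_isQuot (hp : SGA1.IsQuot ρ p) (hq : p ≫ q = f)
    (hu : IsUnit ((Nat.card G : ℕ) : Γ(Z, ⊤))) [LocallyOfFinitePresentation f] : LocallyOfFinitePresentation q := by
  have := hp.affine
  rw [HasRingHomProperty.iff_appLE (P := @LocallyOfFinitePresentation)]
  intro U V e
  have hV : IsAffineOpen (p ⁻¹ᵁ V.1) := V.2.preimage p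
  have e' : p ⁻¹ᵁ V.1 ≤ f ⁻¹ᵁ U.1 := by
    rw [← hq, Scheme.Hom.comp_preimage]
    exact p.preimage_mono e
  have hcomp : q.appLE U.1 V.1 e ≫ p.app V.1 = f.appLE U.1 (p ⁻¹ᵁ V.1) e' := by
    subst hq
    rw [Scheme.Hom.app_eq_appLE, Scheme.Hom.appLE_comp_appLE]
  have h1 : (f.appLE U.1 (p ⁻¹ᵁ V.1) e').hom.FinitePresentation :=
    HasRingHomProperty.appLE @LocallyOfFinitePresentation f inferInstance U ⟨_, hV⟩ e'
  rw [← hcomp, CommRingCat.hom_comp] at h1
  obtain ⟨r, hr⟩ := exists_retraction hp V.1 (isUnit_natCast_sections q hu V.1)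
  letI := sectionsAlgebra p V.1
  letI := sectionsAction hp.inv V.1
  haveI := isInvariant_sections hp V.1
  haveI : Algebra.IsIntegral Γ(Y, V.1) Γ(X, p ⁻¹ᵁ V.1) := Algebra.IsInvariant.isIntegral _ _ G
  letI : Algebra Γ(Z, U.1) Γ(Y, V.1) := (q.appLE U.1 V.1 e).hom.toAlgebra
  letI : Algebra Γ(Z, U.1) Γ(X, p ⁻¹ᵁ V.1) := ((p.app V.1).hom.comp (q.appLE U.1 V.1 e).hom).toAlgebra
  haveI : IsScalarTower Γ(Z, U.1) Γ(Y, V.1) Γ(X, p ⁻¹ᵁ V.1) := IsScalarTower.of_algebraMap_eq fun _ => rfl
  haveI : Algebra.FinitePresentation Γ(Z, U.1) Γ(X, p ⁻¹ᵁ V.1) := h1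
  exact finitePresentation_of_retraction r hr

theorem isProper_of_isQuot (hp : SGA1.IsQuot ρ p) (hq : p ≫ q = f) [IsProper f] [LocallyOfFiniteType q] :
    IsProper q := by
  haveI : IsSeparated q := (isSeparated_iff_of_isQuot hp hq).1 inferInstance
  haveI : Surjective p := ⟨surjective hp⟩
  haveI : UniversallyClosed (p ≫ q) := hq ▸ inferInstance
  haveI : UniversallyClosed q := UniversallyClosed.of_comp_surjective p q
  exact {}

end Groth.Agent.QuotScheme
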